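import Cfsg.Agent.Lib.BrauerP.Tuan.MinusEnd

/-!
# Groups of order `p q^b g₀`
-/

set_option autoImplicit false
set_option linter.unusedSectionVars false
set_option linter.unusedVariables false

namespace Cfsg.Agent.Lib.BrauerP.Tuan

open Cfsg Module MulAction
open Cfsg.Agent.Lib.Char.Basic Cfsg.Agent.Lib.Char.Ortho Cfsg.Agent.Lib.Char.Complete
open Cfsg.Agent.Lib.Char.Degree Cfsg.Agent.Lib.Char.Induced
open Cfsg.Agent.Lib.ExcP.Gram Cfsg.Agent.Lib.ExcP.Dual Cfsg.Agent.Lib.ExcP.Core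
open Cfsg.Agent.Lib.ExcP.Inst Cfsg.Agent.Lib.ExcP.BlockHA
open Cfsg.Agent.Lib.BrauerP.Data Cfsg.Agent.Lib.BrauerP.Data.BD Cfsg.Agent.Lib.BrauerP.Frob
open Cfsg.Agent.Lib.BrauerP.Fourier
open scoped ComplexConjugate Classical

universe u

variable {G : Type u} [Group G] [Fintype G] [Fintype (IrrCharacter G)] {p e : ℕ} [hp : Fact p.Prime]
  {P : Subgroup G} {hP : Nat.card P = p} [Fintype P] [Fintype (DD P p)]

variable (D : BD P p e hP) (hp2 : ¬ p ^ 2 ∣ Nat.card G)

include hp2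

/-- Degrees of the nontrivial members with `z ≠ 0` are not prime to `p`-complement part `q`. -/
theorem q_dvd_deg {q b g₀ : ℕ} (hq : q.Prime) (hG' : Nat.card G = p * q ^ b * g₀) (hg : g₀ < p - 1)
    (hlin : ∀ j : IrrCharacter G, charDegree (j : G → ℂ) = 1 → j = oneIrr G) {j : IrrCharacter G}
    (hj : j ∈ setA D ∨ j ∈ setB D) : q ∣ charDegree (j : G → ℂ) := by
  have hpp := hp.out.two_le
  have hpZ : (2 : ℤ) ≤ p := by exact_mod_cast hpp
  set f := charDegree (j : G → ℂ) with hf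
  have hf0 : 0 < f := charDegree_pos j.2
  -- `f` is prime to `p`
  have hndvd : ¬ p ∣ f := by
    intro h
    have h1 : (p : ℤ) ∣ (f : ℤ) := by exact_mod_cast h
    rcases hj with hj | hj
    · have h2 := (deg_setA D hp2 hlin hj).2
      rw [← hf] at h2
      rw [h2] at h1
      have h3 : (p : ℤ) ∣ 1 := (Int.dvd_add_left (dvd_mul_left _ _)).mp h1
      have h4 : p ∣ 1 := by exact_mod_cast h3
      exact hp.out.one_lt.ne' (Nat.dvd_one.mp h4)
    · have h2 := deg_setB D hp2 hj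
      rw [← hf] at h2
      rw [h2] at h1
      have h3 : (p : ℤ) ∣ 1 := by
        have h4 : (p : ℤ) ∣ (((aP (hP := hP) hp2 j : ℤ) + 1) * p) := dvd_mul_left _ _
        have h5 := dvd_sub h4 h1
        simpa using h5
      have h4 : p ∣ 1 := by exact_mod_cast h3
      exact hp.out.one_lt.ne' (Nat.dvd_one.mp h4)
  have hcop : Nat.Coprime f p := ((Nat.Prime.coprime_iff_not_dvd hp.out).mpr hndvd).symm
  have h1 : f ∣ p * (q ^ b * g₀) := by
    rw [← mul_assoc, ← hG']
    exact charDegree_dvd_card j.2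
  have h2 : f ∣ q ^ b * g₀ := hcop.dvd_of_dvd_mul_left h1
  by_contra hqf
  have hcop2 : Nat.Coprime f (q ^ b) :=
    Nat.Coprime.pow_right _ (((Nat.Prime.coprime_iff_not_dvd hq).mpr hqf).symm)
  have h3 : f ∣ g₀ := hcop2.dvd_of_dvd_mul_left h2
  have hg0 : 0 < g₀ := by
    rcases Nat.eq_zero_or_pos g₀ with h | h
    · rw [h, mul_zero] at hG'
      exact absurd hG' Nat.card_pos.ne'
    · exact h
  have h4 := Nat.le_of_dvd hg0 h3
  rcases hj with hj | hj
  · obtain ⟨h5, h6⟩ := deg_setA D hp2 hlin hj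
    rw [← hf] at h6
    have h7 : (1 : ℤ) + p ≤ f := by
      rw [h6]
      have h8 : (1 : ℤ) ≤ (aP (hP := hP) hp2 j : ℤ) - 1 := by omega
      nlinarith
    omega
  · have h6 := deg_setB D hp2 hj
    rw [← hf] at h6
    have h7 : (p : ℤ) - 1 ≤ f := by
      rw [h6]
      have h8 : (0 : ℤ) ≤ (aP (hP := hP) hp2 j : ℤ) := by positivity
      nlinarith
    omega

/-- The degree of the exceptional characters. -/
theorem D₀_dvd {q b g₀ : ℕ} (hq : q.Prime) (hG' : Nat.card G = p * q ^ b * g₀) (hg : g₀ < p - 1)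
    (hlin : ∀ j : IrrCharacter G, charDegree (j : G → ℂ) = 1 → j = oneIrr G) :
    (q : ℤ) ∣ D.ε * D.D₀ - 1 ∧ D.D₀ ∣ g₀ := by
  have hpp := hp.out.two_le
  have hdvdall : (q : ℤ) ∣ D.ε * D.D₀ - 1 := by
    have h1 := D.deg_rel
    have h2 : (q : ℤ) ∣ ∑ j, (D.z j * (charDegree (j : G → ℂ) : ℤ) + if j = oneIrr G then 1 else 0) := by
      apply Finset.dvd_sum
      intro j _
      by_cases hj : j = oneIrr G
      · rw [if_pos hj, hj, D.hzone, charDegree_oneIrr]
        simp
      · rw [if_neg hj, add_zero]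
        rcases D.hz j with h | h | h
        · rw [h]
          simp
        · apply Dvd.dvd.mul_left
          have h3 : j ∈ setB D := Finset.mem_filter.mpr ⟨Finset.mem_univ _, h⟩
          exact_mod_cast q_dvd_deg D hp2 hq hG' hg hlin (Or.inr h3)
        · apply Dvd.dvd.mul_left
          have h3 : j ∈ setA D := Finset.mem_filter.mpr ⟨Finset.mem_univ _, h, hj⟩
          exact_mod_cast q_dvd_deg D hp2 hq hG' hg hlin (Or.inl h3)
    rw [Finset.sum_add_distrib, Finset.sum_ite_eq', if_pos (Finset.mem_univ _)] at h2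
    have h3 : ∑ j, D.z j * (charDegree (j : G → ℂ) : ℤ) + 1 = -(D.ε * D.D₀ - 1) := by linarith
    rw [h3] at h2
    exact (dvd_neg.mp h2)
  refine ⟨hdvdall, ?_⟩
  -- `q` does not divide the degree
  have hqD : ¬ q ∣ D.D₀ := by
    intro h
    have h1 : (q : ℤ) ∣ D.ε * D.D₀ := Dvd.dvd.mul_left (by exact_mod_cast h) _
    have h2 : (q : ℤ) ∣ 1 := by
      have h3 := dvd_sub h1 hdvdall
      simpa using h3
    have h3 : q ∣ 1 := by exact_mod_cast h2
    exact hq.one_lt.ne' (Nat.dvd_one.mp h3)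
  -- nor does `p`
  obtain ⟨i⟩ : Nonempty (Fin D.t) := ⟨⟨0, D.t_pos⟩⟩
  have hepos := D.e_pos
  have hele : e ≤ p - 1 := by
    have h2 := D.hte
    have h3 := D.t_pos
    rw [← h2]
    nlinarith
  have hpD : ¬ p ∣ D.D₀ := by
    intro h
    have h1 : (p : ℤ) ∣ (D.D₀ : ℤ) := by exact_mod_cast h
    rw [D.deg_ν hp2 i] at h1
    have h2 : (p : ℤ) ∣ D.ε * e := (Int.dvd_add_left (dvd_mul_right _ _)).mp h1
    have h3 : (p : ℤ) ∣ (e : ℤ) := by
      rcases D.hε with h | h
      · rw [h, one_mul] at h2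
        exact h2
      · rw [h] at h2
        simpa using h2
    have h4 : p ∣ e := by exact_mod_cast h3
    have h5 := Nat.le_of_dvd hepos h4
    omega
  have h1 : D.D₀ ∣ p * (q ^ b * g₀) := by
    rw [← mul_assoc, ← hG', ← D.hνdeg i]
    exact charDegree_dvd_card (D.ν i).2
  have h2 := (((Nat.Prime.coprime_iff_not_dvd hp.out).mpr hpD).symm).dvd_of_dvd_mul_left h1
  have h3 : Nat.Coprime D.D₀ (q ^ b) :=
    Nat.Coprime.pow_right _ (((Nat.Prime.coprime_iff_not_dvd hq).mpr hqD).symm)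
  exact h3.dvd_of_dvd_mul_left h2

omit D hp2 [Fintype G] [Fintype (IrrCharacter G)] [Fintype P] [Fintype (DD P p)] in
/-- The arithmetic at the end of the case `ε = 1`. -/
theorem arith_plus_end {e b c : ℕ} (he : 3 ≤ e) (hc : 2 * (e + 1) = 2 ^ c) (hdvd : 2 ^ b ∣ e ^ 2 - 1) :
    b ≤ c := by
  have hc3 : 3 ≤ c := by
    by_contra hcon
    have h1 : c ≤ 2 := by omega
    have h2 : 2 ^ c ≤ 2 ^ 2 := Nat.pow_le_pow_right (by norm_num) h1
    omega
  obtain ⟨c', rfl⟩ : ∃ c', c = c' + 3 := ⟨c - 3, by omega⟩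
  set k := 2 ^ (c' + 1) with hk
  have hk2 : 2 ∣ k := by
    rw [hk, pow_succ]
    exact dvd_mul_left _ _
  have h1 : e + 1 = 2 * k := by
    have h2 : 2 ^ (c' + 3) = 2 * (2 * k) := by
      rw [hk]
      ring
    omega
  have hkpos : 2 ≤ k := Nat.le_of_dvd (by positivity) hk2
  obtain ⟨l, hl⟩ : ∃ l, k = l + 1 := ⟨k - 1, by omega⟩
  have h3 : e ^ 2 - 1 = 2 ^ (c' + 3) * l := by
    have h4 : 2 ^ (c' + 3) = 4 * k := by
      rw [hk]
      ring
    have h5 : e = 2 * l + 1 := by omega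
    rw [h4, h5, hl]
    have h6 : (2 * l + 1) ^ 2 = 4 * (l + 1) * l + 1 := by ring
    rw [h6]
    simp
  rw [h3] at hdvd
  have hodd : Odd l := by
    rw [hl] at hk2
    rcases Nat.even_or_odd l with h | h
    · exfalso
      obtain ⟨r, hr⟩ := h
      obtain ⟨s, hs⟩ := hk2
      omega
    · exact h
  have hcop : Nat.Coprime (2 ^ b) l := Nat.Coprime.pow_left _ (Nat.coprime_two_left.mpr hodd)
  have h7 := hcop.dvd_of_dvd_mul_right hdvd
  exact (Nat.pow_dvd_pow_iff_le_right (by norm_num : 1 < 2)).mp h7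

/-- **The case `ε = 1`**. -/
theorem plus_case [IsSimpleGroup G] (hcen : Subgroup.center G = ⊥) (hε : D.ε = 1)
    (hlin : ∀ j : IrrCharacter G, charDegree (j : G → ℂ) = 1 → j = oneIrr G) (hC : Cn P = P)
    (hN : Nat.card (Nn P) = p * e) (hodd : p ≠ 2) (he2 : 2 ≤ e) {n : ℕ} (hn : Nat.card G = p * (e * n))
    {q b g₀ : ℕ} (hq : q.Prime) (hG' : Nat.card G = p * q ^ b * g₀) (hg : g₀ < p - 1) :
    2 * n < (p + 1) * (p + 2) ∧ ∃ c, p + 1 = 2 ^ c ∧ 2 * g₀ + 1 = p := by
  have hpp := hp.out.two_le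
  have hpos := hp.out.pos
  obtain ⟨hqε, hDg⟩ := D₀_dvd D hp2 hq hG' hg hlin
  have hg0 : 0 < g₀ := by
    rcases Nat.eq_zero_or_pos g₀ with h | h
    · rw [h, mul_zero] at hG'
      exact absurd hG' Nat.card_pos.ne'
    · exact h
  have hDle := Nat.le_of_dvd hg0 hDg
  have ht0 := D.t_pos
  let i₀ : Fin D.t := ⟨0, ht0⟩
  -- the degree
  have hD : D.D₀ = e ∧ aP (hP := hP) hp2 (D.ν i₀) = 0 := by
    have h1 := D.deg_ν hp2 i₀
    rw [hε, one_mul] at h1
    have h2 : D.D₀ = e + p * aP (hP := hP) hp2 (D.ν i₀) := by exact_mod_cast h1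
    have h3 : aP (hP := hP) hp2 (D.ν i₀) = 0 := by
      by_contra hne
      have h4 : 1 * p ≤ aP (hP := hP) hp2 (D.ν i₀) * p := Nat.mul_le_mul_right _ (by omega)
      rw [mul_comm (aP (hP := hP) hp2 (D.ν i₀))] at h4
      omega
    rw [h3, mul_zero, add_zero] at h2
    exact ⟨h2, h3⟩
  obtain ⟨hDe, ha₀⟩ := hD
  have ha0 : ∀ i, aP (hP := hP) hp2 (D.ν i) = 0 := fun i => by rw [aP_ν_eq D hp2 i i₀, ha₀]
  have ht2 : 2 ≤ D.t := by
    by_contra hlt
    have h1 : D.t = 1 := by omega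
    have h2 := D.ht1 h1
    rw [hε] at h2
    norm_num at h2
  obtain ⟨m, hm1, hm2⟩ := exists_decomp (isCharacter_tn D i₀ i₀)
  obtain ⟨ht, -⟩ := plus_alpha D hp2 hDe ha0 he2 ht2 hlin hC i₀ hm1 hm2
  let i₁ : Fin D.t := ⟨1, by omega⟩
  have hii : i₀ ≠ i₁ := by
    intro h
    have := congrArg Fin.val h
    simp [i₀, i₁] at this
  obtain ⟨hAdeg, hBdeg, hA2, hB2, -, -, -⟩ := plus_pair D hp2 hDe ha0 he2 ht hlin hC hN hii
  have hpe : p = 2 * e + 1 := by
    have h2 := D.hte
    rw [ht] at h2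
    omega
  have he3 : 3 ≤ e := by omega
  have hoddE : Odd e := ⟨(setA D).card, by omega⟩
  -- `g₀ = e`
  have hge : g₀ = e := by
    rw [hDe] at hDg
    obtain ⟨c, hc⟩ := hDg
    have hc1 : c = 1 := by
      have h1 : c ≠ 0 := by
        rintro rfl
        omega
      have h2 : c < 2 := by
        by_contra hcon
        have h3 : e * 2 ≤ e * c := Nat.mul_le_mul_left _ (by omega)
        omega
      omega
    rw [hc, hc1, mul_one]
  subst hge
  -- `n = q ^ b`
  have hnq : n = q ^ b := by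
    rw [hn] at hG'
    have h1 : p * (g₀ * n) = p * (g₀ * q ^ b) := by
      rw [hG']
      ring
    have h2 := Nat.eq_of_mul_eq_mul_left hpos h1
    exact Nat.eq_of_mul_eq_mul_left hoddE.pos h2
  -- `p + 1` divides `q ^ b`
  obtain ⟨j, hj⟩ : (setA D).Nonempty := by
    rw [← Finset.card_pos]
    omega
  have hdvd : (p + 1) ∣ q ^ b := by
    have h1 : (p + 1) ∣ p * (g₀ * q ^ b) := by
      rw [← (hAdeg j hj).2, ← hnq, ← hn]
      exact charDegree_dvd_card j.2
    have h2 : Nat.Coprime (p + 1) p := by simp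
    have h3 := h2.dvd_of_dvd_mul_left h1
    have h4 : Nat.Coprime (p + 1) g₀ := by
      have h5 : p + 1 = 2 * (g₀ + 1) := by omega
      rw [h5]
      apply Nat.Coprime.mul_left
      · exact Nat.coprime_two_left.mpr hoddE
      · simp
    exact h4.dvd_of_dvd_mul_left h3
  have hq2 : q = 2 := by
    have h1 : 2 ∣ q ^ b := by
      refine Dvd.dvd.trans ?_ hdvd
      exact ⟨g₀ + 1, by omega⟩
    have h3 := (Nat.Prime.dvd_of_dvd_pow Nat.prime_two h1)
    exact ((Nat.prime_dvd_prime_iff_eq Nat.prime_two hq).mp h3).symm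
  subst hq2
  obtain ⟨c, -, hc⟩ := (Nat.dvd_prime_pow Nat.prime_two).mp hdvd
  -- the Sylow subgroup
  have hdvdG : 2 ^ b ∣ Nat.card G := by
    rw [hG']
    exact Dvd.dvd.mul_right (Dvd.intro_left _ rfl) _
  have : Fact (Nat.Prime 2) := ⟨Nat.prime_two⟩
  obtain ⟨Q, hQ⟩ := Sylow.exists_subgroup_card_pow_prime 2 hdvdG
  have h1 := plus_dvd D hp2 hcen hε hDe ha0 he2 ht hodd hoddE hlin hC hN hn Q hQ
  have h2 : b ≤ c := arith_plus_end he3 (by omega) h1
  have h3 : 2 ^ b ≤ 2 ^ c := Nat.pow_le_pow_right (by norm_num) h2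
  refine ⟨?_, c, hc, by omega⟩
  rw [hnq]
  nlinarith

/-- The relation among the degrees, `ε = -1`. -/
theorem rel_minus (hε : D.ε = -1) :
    ((∑ j ∈ setB D, charDegree (j : G → ℂ) : ℕ) : ℤ) =
      1 + ((∑ j ∈ setA D, charDegree (j : G → ℂ) : ℕ) : ℤ) + D.D₀ := by
  obtain ⟨i⟩ : Nonempty (Fin D.t) := ⟨⟨0, D.t_pos⟩⟩
  have h1 := D.reg_rel i (g := 1) (by
    rw [orderOf_one]
    exact hp.out.one_lt.ne' ∘ Nat.dvd_one.mp)
  rw [sum_z D (fun j => (j : G → ℂ) 1), hε, ν_one] at h1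
  have h2 : ((oneIrr G : IrrCharacter G) : G → ℂ) 1 = 1 := rfl
  have h3 : ∀ S : Finset (IrrCharacter G), ∑ j ∈ S, (j : G → ℂ) 1 =
      ((∑ j ∈ S, charDegree (j : G → ℂ) : ℕ) : ℂ) := by
    intro S
    push_cast
    refine Finset.sum_congr rfl fun j _ => ?_
    rw [charDegree_natCast (isCharacter_of_isIrrCharacter j.2)]
  rw [h2, h3, h3] at h1
  have h4 : ((((∑ j ∈ setB D, charDegree (j : G → ℂ) : ℕ) : ℤ) : ℤ) : ℂ) =
      ((1 + ((∑ j ∈ setA D, charDegree (j : G → ℂ) : ℕ) : ℤ) + D.D₀ : ℤ) : ℂ) := by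
    push_cast at h1 ⊢
    linear_combination h1
  exact_mod_cast h4

/-- Degrees of members with `z ≠ 0` are prime to `p`. -/
theorem not_dvd_deg (hlin : ∀ j : IrrCharacter G, charDegree (j : G → ℂ) = 1 → j = oneIrr G)
    {j : IrrCharacter G} (hj : j ∈ setA D ∨ j ∈ setB D) : ¬ p ∣ charDegree (j : G → ℂ) := by
  intro h
  have h1 : (p : ℤ) ∣ (charDegree (j : G → ℂ) : ℤ) := by exact_mod_cast h
  rcases hj with hj | hj
  · have h2 := (deg_setA D hp2 hlin hj).2
    rw [h2] at h1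
    have h3 : (p : ℤ) ∣ 1 := (Int.dvd_add_left (dvd_mul_left _ _)).mp h1
    have h4 : p ∣ 1 := by exact_mod_cast h3
    exact hp.out.one_lt.ne' (Nat.dvd_one.mp h4)
  · have h2 := deg_setB D hp2 hj
    rw [h2] at h1
    have h3 : (p : ℤ) ∣ 1 := by
      have h4 : (p : ℤ) ∣ (((aP (hP := hP) hp2 j : ℤ) + 1) * p) := dvd_mul_left _ _
      have h5 := dvd_sub h4 h1
      simpa using h5
    have h4 : p ∣ 1 := by exact_mod_cast h3
    exact hp.out.one_lt.ne' (Nat.dvd_one.mp h4)

set_option maxHeartbeats 2000000 in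
/-- **The case `ε = -1`**. -/
theorem minus_case [IsSimpleGroup G] (hcen : Subgroup.center G = ⊥) (hε : D.ε = -1)
    (hlin : ∀ j : IrrCharacter G, charDegree (j : G → ℂ) = 1 → j = oneIrr G) (hC : Cn P = P)
    (hN : Nat.card (Nn P) = p * e) (hodd : p ≠ 2) (he2 : 2 ≤ e) {n : ℕ} (hn : Nat.card G = p * (e * n))
    {q b g₀ : ℕ} (hq : q.Prime) (hG' : Nat.card G = p * q ^ b * g₀) (hg : g₀ < p - 1) :
    2 * n < (p + 1) * (p + 2) ∧ ((∃ m, p = 2 ^ m + 1 ∧ g₀ + 2 = p) ∨
      (∃ m, p = 2 ^ (m + 1) + 1 ∧ 2 * g₀ = p + 1 ∧ 2 ≤ m)) := by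
  have hpp := hp.out.two_le
  have hpos := hp.out.pos
  have hpodd : Odd p := by
    rcases hp.out.eq_two_or_odd' with h | h
    · exact absurd h hodd
    · exact h
  obtain ⟨hqε, hDg⟩ := D₀_dvd D hp2 hq hG' hg hlin
  have hg0 : 0 < g₀ := by
    rcases Nat.eq_zero_or_pos g₀ with h | h
    · rw [h, mul_zero] at hG'
      exact absurd hG' Nat.card_pos.ne'
    · exact h
  have hDle := Nat.le_of_dvd hg0 hDg
  have ht0 := D.t_pos
  have hte := D.hte
  let i₀ : Fin D.t := ⟨0, ht0⟩
  have hele : e ≤ p - 1 := by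
    rw [← hte]
    nlinarith
  have hD1 : D.D₀ ≠ 1 := by
    intro h
    have h2 : charDegree (D.ν i₀ : G → ℂ) = 1 := by rw [D.hνdeg, h]
    have h3 := hlin _ h2
    have h4 := D.hνz i₀
    rw [h3, D.hzone] at h4
    norm_num at h4
  have hD0 : 0 < D.D₀ := by
    have := charDegree_pos (D.ν i₀).2
    rwa [D.hνdeg] at this
  -- the degree
  have hDa : D.D₀ + e = p ∧ aP (hP := hP) hp2 (D.ν i₀) = 1 := by
    have h1 := D.deg_ν hp2 i₀
    rw [hε] at h1
    have h2 : D.D₀ + e = p * aP (hP := hP) hp2 (D.ν i₀) := by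
      have : (D.D₀ : ℤ) + e = p * aP (hP := hP) hp2 (D.ν i₀) := by
        rw [h1]
        ring
      exact_mod_cast this
    have h3 : aP (hP := hP) hp2 (D.ν i₀) = 1 := by
      by_contra hne
      rcases Nat.lt_or_ge (aP (hP := hP) hp2 (D.ν i₀)) 1 with h4 | h4
      · have h5 : aP (hP := hP) hp2 (D.ν i₀) = 0 := by omega
        rw [h5] at h2
        omega
      · have h5 : p * 2 ≤ p * aP (hP := hP) hp2 (D.ν i₀) := Nat.mul_le_mul_left _ (by omega)
        omega
    rw [h3, mul_one] at h2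
    exact ⟨h2, h3⟩
  obtain ⟨hDe, ha₀⟩ := hDa
  have ha1 : ∀ i, aP (hP := hP) hp2 (D.ν i) = 1 := fun i => by rw [aP_ν_eq D hp2 i i₀, ha₀]
  have ht2 : 2 ≤ D.t := by
    by_contra hlt
    have h1 : D.t = 1 := by omega
    rw [h1, one_mul] at hte
    omega
  have h2e : 2 * e ≤ p - 1 := by
    rw [← hte]
    exact Nat.mul_le_mul_right _ ht2
  -- `g₀` is the degree
  have hgD : g₀ = D.D₀ := by
    obtain ⟨c, hc⟩ := hDg
    have hc1 : c = 1 := by
      have h1 : c ≠ 0 := by
        rintro rfl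
        omega
      have h2 : c < 2 := by
        by_contra hcon
        have h3 : D.D₀ * 2 ≤ D.D₀ * c := Nat.mul_le_mul_left _ (by omega)
        omega
      omega
    rw [hc, hc1, mul_one]
  subst hgD
  have hen : e * n = q ^ b * D.D₀ := by
    rw [hn] at hG'
    have h1 : p * (e * n) = p * (q ^ b * D.D₀) := by
      rw [hG']
      ring
    exact Nat.eq_of_mul_eq_mul_left hpos h1
  -- `e` is a power of `q`
  have hcopeD : Nat.Coprime e D.D₀ := by
    have h1 : Nat.Coprime e p :=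
      ((Nat.Prime.coprime_iff_not_dvd hp.out).mpr (Nat.not_dvd_of_pos_of_lt (by omega) (by omega))).symm
    rw [← hDe] at h1
    exact (Nat.coprime_add_self_right).mp h1
  have hedvd : e ∣ q ^ b := hcopeD.dvd_of_dvd_mul_right ⟨n, hen.symm⟩
  obtain ⟨i, hib, hei⟩ := (Nat.dvd_prime_pow hq).mp hedvd
  have hi1 : 1 ≤ i := by
    by_contra hcon
    have h1 : i = 0 := by omega
    rw [h1, pow_zero] at hei
    omega
  have hqe : q ∣ e := by
    rw [hei]
    exact dvd_pow_self q (by omega)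
  -- `q = 2`
  have hq2 : q = 2 := by
    have h1 : q ∣ p - 1 := by
      rw [← hte]
      exact Dvd.dvd.mul_left hqe _
    have h2 : q ∣ p + 1 := by
      have h3 : (q : ℤ) ∣ (D.D₀ : ℤ) + 1 := by
        rw [hε] at hqε
        have h4 := (dvd_neg (a := (q : ℤ))).mpr hqε
        have h5 : -(-1 * (D.D₀ : ℤ) - 1) = (D.D₀ : ℤ) + 1 := by ring
        rwa [h5] at h4
      have h4 : q ∣ D.D₀ + 1 := by exact_mod_cast h3
      have h5 : p + 1 = (D.D₀ + 1) + e := by omega
      rw [h5]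
      exact Dvd.dvd.add h4 hqe
    have h3 : q ∣ 2 := by
      have h5 : p + 1 = (p - 1) + 2 := by omega
      rw [h5] at h2
      exact (Nat.dvd_add_right h1).mp h2
    exact (Nat.prime_dvd_prime_iff_eq hq Nat.prime_two).mp h3
  subst hq2
  have hD₀odd : Odd D.D₀ := by
    have h3 : (2 : ℤ) ∣ (D.D₀ : ℤ) + 1 := by
      rw [hε] at hqε
      have h4 := (dvd_neg (a := ((2 : ℕ) : ℤ))).mpr hqε
      have h5 : -(-1 * (D.D₀ : ℤ) - 1) = (D.D₀ : ℤ) + 1 := by ring
      rw [h5] at h4
      exact_mod_cast h4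
    have h4 : 2 ∣ D.D₀ + 1 := by exact_mod_cast h3
    rcases Nat.even_or_odd D.D₀ with h | h
    · exfalso
      obtain ⟨r, hr⟩ := h
      obtain ⟨s, hs⟩ := h4
      omega
    · exact h
  obtain ⟨r, hr⟩ : ∃ r, b = i + r := ⟨b - i, by omega⟩
  have hnr : n = 2 ^ r * D.D₀ := by
    have h1 : 2 ^ i * n = 2 ^ b * D.D₀ := by
      rw [← hei]
      exact hen
    rw [hr, pow_add, mul_assoc] at h1
    exact Nat.eq_of_mul_eq_mul_left (by positivity) h1
  have hGb : Nat.card G = p * (2 ^ b * D.D₀) := by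
    rw [hG']
    ring
  have hdvdG : 2 ^ b ∣ Nat.card G := by
    rw [hG']
    exact Dvd.dvd.mul_right (Dvd.intro_left _ rfl) _
  have : Fact (Nat.Prime 2) := ⟨Nat.prime_two⟩
  obtain ⟨Q, hQ⟩ := Sylow.exists_subgroup_card_pow_prime 2 hdvdG
  have hb1 : 1 ≤ b := by omega
  have heven : ∀ j, (j ∈ setA D ∨ j ∈ setB D) → 2 ∣ charDegree (j : G → ℂ) := fun j hj =>
    q_dvd_deg D hp2 Nat.prime_two hG' hg hlin hj
  have hrel := rel_minus D hp2 hε
  by_cases hi : i = 1
  · -- the case `e = 2`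
    subst hi
    have he : e = 2 := by rw [hei, pow_one]
    have hcard : (setA D).card + (setB D).card + 1 = 2 := by
      have := card_setA_add D
      omega
    -- `A` is empty
    have hA : setA D = ∅ := by
      by_contra hne
      have h1 : 0 < (setA D).card := Finset.card_pos.mpr (Finset.nonempty_iff_ne_empty.mpr hne)
      have h2 : (setB D).card = 0 := by omega
      rw [Finset.card_eq_zero] at h2
      rw [h2, Finset.sum_empty] at hrel
      push_cast at hrel
      have h3 : (0 : ℤ) ≤ ∑ j ∈ setA D, (charDegree (j : G → ℂ) : ℤ) :=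
        Finset.sum_nonneg (fun j _ => by positivity)
      have h4 : (0 : ℤ) < D.D₀ := by exact_mod_cast hD0
      linarith
    rw [hA, Finset.card_empty] at hcard
    have hB1 : (setB D).card = 1 := by omega
    obtain ⟨F, hF⟩ := Finset.card_eq_one.mp hB1
    have hFmem : F ∈ setB D := by rw [hF]; exact Finset.mem_singleton_self F
    rw [hF, hA, Finset.sum_singleton, Finset.sum_empty] at hrel
    have hFdeg : charDegree (F : G → ℂ) = D.D₀ + 1 := by
      have : (charDegree (F : G → ℂ) : ℤ) = (D.D₀ + 1 : ℕ) := by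
        rw [hrel]
        push_cast
        ring
      exact_mod_cast this
    -- the degree is a power of `2`
    have hdvd : (D.D₀ + 1) ∣ 2 ^ b := by
      have h1 : (D.D₀ + 1) ∣ p * (2 ^ b * D.D₀) := by
        rw [← hFdeg, ← hGb]
        exact charDegree_dvd_card F.2
      have h2 : Nat.Coprime (D.D₀ + 1) p := by
        have h3 : (D.D₀ + 1) + 1 = p := by omega
        have h4 : Nat.Coprime (D.D₀ + 1) ((D.D₀ + 1) + 1) := by simp
        rwa [h3] at h4
      have h3 := h2.dvd_of_dvd_mul_left h1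
      have h4 : Nat.Coprime (D.D₀ + 1) D.D₀ := by simp
      exact h4.dvd_of_dvd_mul_right h3
    obtain ⟨m, -, hm⟩ := (Nat.dvd_prime_pow Nat.prime_two).mp hdvd
    have hbm := minus_two_bound D hp2 hcen hε hC hFmem hA (hF) (hFdeg.trans hm) hm hpodd hD₀odd Q hQ hb1 hGb
    refine ⟨?_, Or.inl ⟨m, by omega, by omega⟩⟩
    rw [hnr]
    have h3 : 2 ^ (1 + r) ≤ 2 ^ m := Nat.pow_le_pow_right (by norm_num) (by omega)
    rw [pow_add, pow_one] at h3
    have h4 : 2 * (2 ^ r * D.D₀) ≤ 2 ^ m * D.D₀ := by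
      calc 2 * (2 ^ r * D.D₀) = (2 * 2 ^ r) * D.D₀ := by ring
        _ ≤ 2 ^ m * D.D₀ := Nat.mul_le_mul_right _ h3
    rw [← hm] at h4
    have h5 : p = D.D₀ + 2 := by omega
    obtain ⟨d, hd⟩ : ∃ d, d = D.D₀ := ⟨_, rfl⟩
    rw [← hd] at h4 h5 ⊢
    rw [h5]
    nlinarith
  · -- the case `4 ∣ e`
    have h4e : 4 ∣ e := by
      rw [hei]
      exact pow_dvd_pow 2 (show 2 ≤ i by omega)
    have h4p : 4 ∣ p - 1 := by
      rw [← hte]
      exact Dvd.dvd.mul_left h4e _
    -- a member of degree not divisible by `4`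
    have hex : ∃ j, (j ∈ setA D ∨ j ∈ setB D) ∧ ¬ 4 ∣ charDegree (j : G → ℂ) := by
      by_contra hcon
      push Not at hcon
      have h1 : (4 : ℤ) ∣ ((∑ j ∈ setB D, charDegree (j : G → ℂ) : ℕ) : ℤ) := by
        have : 4 ∣ ∑ j ∈ setB D, charDegree (j : G → ℂ) :=
          Finset.dvd_sum (fun j hj => hcon j (Or.inr hj))
        exact_mod_cast this
      have h2 : (4 : ℤ) ∣ ((∑ j ∈ setA D, charDegree (j : G → ℂ) : ℕ) : ℤ) := by
        have : 4 ∣ ∑ j ∈ setA D, charDegree (j : G → ℂ) :=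
          Finset.dvd_sum (fun j hj => hcon j (Or.inl hj))
        exact_mod_cast this
      have h3 : (4 : ℤ) ∣ 1 + (D.D₀ : ℤ) := by
        have h4 := dvd_sub h1 h2
        rw [hrel] at h4
        have h5 : 1 + ((∑ j ∈ setA D, charDegree (j : G → ℂ) : ℕ) : ℤ) + (D.D₀ : ℤ) -
            ((∑ j ∈ setA D, charDegree (j : G → ℂ) : ℕ) : ℤ) = 1 + (D.D₀ : ℤ) := by ring
        rwa [h5] at h4
      have h4 : 4 ∣ 1 + D.D₀ := by exact_mod_cast h3
      omega
    obtain ⟨j, hj, hj4⟩ := hex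
    obtain ⟨d, hd⟩ := heven j hj
    have hdodd : Odd d := by
      rcases Nat.even_or_odd d with h | h
      · exfalso
        obtain ⟨r', hr'⟩ := h
        apply hj4
        rw [hd, hr']
        exact ⟨r', by ring⟩
      · exact h
    have hdD : d ∣ D.D₀ := by
      have h1 : charDegree (j : G → ℂ) ∣ p * (2 ^ b * D.D₀) := by
        rw [← hGb]
        exact charDegree_dvd_card j.2
      have h2 : Nat.Coprime (charDegree (j : G → ℂ)) p :=
        ((Nat.Prime.coprime_iff_not_dvd hp.out).mpr (not_dvd_deg D hp2 hlin hj)).symm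
      have h3 := h2.dvd_of_dvd_mul_left h1
      have h4 : d ∣ 2 ^ b * D.D₀ := Dvd.dvd.trans ⟨2, by rw [hd]; ring⟩ h3
      have h5 : Nat.Coprime d (2 ^ b) := Nat.Coprime.pow_right _ (Nat.coprime_two_right.mpr hdodd)
      exact h5.dvd_of_dvd_mul_left h4
    have hdle := Nat.le_of_dvd hD0 hdD
    -- the degree is `p + 1`
    have hf : charDegree (j : G → ℂ) = p + 1 := by
      rcases hj with hjA | hjB
      · obtain ⟨h5, h6⟩ := deg_setA D hp2 hlin hjA
        obtain ⟨a', ha'⟩ : ∃ a', aP (hP := hP) hp2 j = a' + 2 := ⟨aP (hP := hP) hp2 j - 2, by omega⟩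
        rw [ha'] at h6
        have h7 : charDegree (j : G → ℂ) = 1 + (a' + 1) * p := by
          have : (charDegree (j : G → ℂ) : ℤ) = (1 + (a' + 1) * p : ℕ) := by
            rw [h6]
            push_cast
            ring
          exact_mod_cast this
        have ha0 : a' = 0 := by
          by_contra hne
          have h8 : 2 * p ≤ (a' + 1) * p := Nat.mul_le_mul_right _ (by omega)
          omega
        rw [h7, ha0]
        ring
      · exfalso
        have h6 := deg_setB D hp2 hjB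
        rcases Nat.lt_or_ge (aP (hP := hP) hp2 j) 2 with h7 | h7
        · have h8 : aP (hP := hP) hp2 j = 0 ∨ aP (hP := hP) hp2 j = 1 := by omega
          rcases h8 with h8 | h8
          · rw [h8] at h6
            have h9 : charDegree (j : G → ℂ) + 1 = p := by
              have : (charDegree (j : G → ℂ) : ℤ) + 1 = p := by
                rw [h6]
                push_cast
                ring
              exact_mod_cast this
            apply hj4
            have h10 : charDegree (j : G → ℂ) = p - 1 := by omega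
            rw [h10]
            exact h4p
          · rw [h8] at h6
            have h9 : charDegree (j : G → ℂ) + 1 = 2 * p := by
              have : (charDegree (j : G → ℂ) : ℤ) + 1 = 2 * p := by
                rw [h6]
                push_cast
                ring
              exact_mod_cast this
            omega
        · obtain ⟨a', ha'⟩ : ∃ a', aP (hP := hP) hp2 j = a' + 2 := ⟨aP (hP := hP) hp2 j - 2, by omega⟩
          rw [ha'] at h6
          have h9 : charDegree (j : G → ℂ) + 1 = (a' + 3) * p := by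
            have : (charDegree (j : G → ℂ) : ℤ) + 1 = ((a' + 3) * p : ℕ) := by
              rw [h6]
              push_cast
              ring
            exact_mod_cast this
          have h10 : 3 * p ≤ (a' + 3) * p := Nat.mul_le_mul_right _ (by omega)
          omega
    -- therefore `t = 2`
    have h2D : 2 * D.D₀ = p + 1 := by
      have h1 : 2 * d = p + 1 := by omega
      obtain ⟨c, hc⟩ := hdD
      have hc1 : c = 1 := by
        have h2 : c ≠ 0 := by
          rintro rfl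
          omega
        have h3 : c < 2 := by
          by_contra hcon
          have h4 : d * 2 ≤ d * c := Nat.mul_le_mul_left _ (by omega)
          omega
        omega
      rw [hc, hc1, mul_one]
      exact h1
    have hpe : p = 2 * e + 1 := by omega
    have hDe' : D.D₀ = e + 1 := by omega
    have ht : D.t = 2 := by
      have h1 : D.t * e = 2 * e := by
        rw [hte]
        omega
      exact Nat.eq_of_mul_eq_mul_right (by omega) h1
    let i₁ : Fin D.t := ⟨1, by omega⟩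
    have hii : i₀ ≠ i₁ := by
      intro h
      have := congrArg Fin.val h
      simp [i₀, i₁] at this
    have hA3 : ∀ j ∈ setA D, aP (hP := hP) hp2 j ≠ 3 := by
      intro j hj h3
      have h4 := (deg_setA D hp2 hlin hj).2
      rw [h3] at h4
      have h5 : charDegree (j : G → ℂ) = 1 + 2 * p := by
        have : (charDegree (j : G → ℂ) : ℤ) = (1 + 2 * p : ℕ) := by
          rw [h4]
          push_cast
          ring
        exact_mod_cast this
      obtain ⟨s, hs⟩ := heven j (Or.inl hj)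
      omega
    have hB1' : ∀ j ∈ setB D, aP (hP := hP) hp2 j ≠ 1 := by
      intro j hj h3
      have h4 := deg_setB D hp2 hj
      rw [h3] at h4
      have h5 : charDegree (j : G → ℂ) + 1 = 2 * p := by
        have : (charDegree (j : G → ℂ) : ℤ) + 1 = (2 * p : ℕ) := by
          rw [h4]
          push_cast
          ring
        exact_mod_cast this
      obtain ⟨s, hs⟩ := heven j (Or.inr hj)
      omega
    have hEven : Even e := by
      obtain ⟨s, hs⟩ := h4e
      exact ⟨2 * s, by omega⟩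
    obtain ⟨hAdeg, hBdeg, hA2, hB2⟩ := minus_pair D hp2 hε hpe hDe' ha1 (by omega) hEven ht hlin hC hN hA3 hB1' hii
    have hm : 2 * e = 2 ^ (i + 1) := by
      rw [hei, pow_succ]
      ring
    have hbm := minus_t2_bound D hp2 hcen hε hC hpe hDe' ha1 hAdeg (fun j hj => (hBdeg j hj).2) hA2 hm hpodd hD₀odd
      Q hQ hb1 hGb
    have hr1 : r ≤ 1 := by omega
    refine ⟨?_, Or.inr ⟨i, by omega, h2D, by omega⟩⟩
    rw [hnr]
    have h3 : 2 ^ r ≤ 2 ^ 1 := Nat.pow_le_pow_right (by norm_num) hr1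
    have h4 : 2 ^ r * D.D₀ ≤ 2 * D.D₀ := Nat.mul_le_mul_right _ (by simpa using h3)
    rw [h2D] at h4
    nlinarith

section Final

omit D hp2

variable {G : Type u} [Group G] [Finite G]

/-- **The core of the Brauer-Tuan theorem**. -/
theorem core [IsSimpleGroup G] (hG : ¬ IsCyclic G) {p q b g₀ : ℕ} (hp : p.Prime) (hq : q.Prime) (hpq : p ≠ q)
    (hG' : Nat.card G = p * q ^ b * g₀) (hg : g₀ < p - 1) :
    (∃ z : G, orderOf z = p ∧ Subgroup.centralizer ({z} : Set G) = Subgroup.zpowers z) ∧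
    2 * Nat.card (Sylow p G) < (p + 1) * (p + 2) ∧
    ((∃ c, p + 1 = 2 ^ c ∧ 2 * g₀ + 1 = p) ∨ (∃ m, p = 2 ^ m + 1 ∧ g₀ + 2 = p) ∨
      (∃ m, p = 2 ^ (m + 1) + 1 ∧ 2 * g₀ = p + 1 ∧ 2 ≤ m)) := by
  classical
  have : Fact p.Prime := ⟨hp⟩
  let _ : Fintype G := Fintype.ofFinite G
  have := Cfsg.Agent.Lib.Char.Ortho.finite_irrCharacter (G := G)
  let _ := Fintype.ofFinite (IrrCharacter G)
  have hperf := Cfsg.Agent.Lib.BrauerP.Reynolds.perfect_of_simple hG
  have hcen : Subgroup.center G = ⊥ := by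
    rcases IsSimpleGroup.eq_bot_or_eq_top_of_normal (Subgroup.center G) inferInstance with h2 | h2
    · exact h2
    · exfalso
      have h3 : commutator G ≤ ⊥ := by
        rw [commutator_def, Subgroup.commutator_le]
        intro a _ b _
        rw [commutatorElement_def, Subgroup.mem_bot]
        have h4 : a ∈ Subgroup.center G := by rw [h2]; trivial
        have h5 : b * a = a * b := Subgroup.mem_center_iff.mp h4 b
        calc a * b * a⁻¹ * b⁻¹ = (b * a) * a⁻¹ * b⁻¹ := by rw [h5]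
          _ = 1 := by group
      rw [hperf] at h3
      have hnt : Nontrivial G := IsSimpleGroup.toNontrivial
      obtain ⟨x, hx⟩ := exists_ne (1 : G)
      exact hx (Subgroup.mem_bot.mp (h3 (Subgroup.mem_top x)))
  have hpp := hp.two_le
  have hg0 : 0 < g₀ := by
    rcases Nat.eq_zero_or_pos g₀ with h | h
    · rw [h, mul_zero] at hG'
      exact absurd hG' Nat.card_pos.ne'
    · exact h
  have hdvd : p ∣ Nat.card G := by
    rw [hG', mul_assoc]
    exact dvd_mul_right _ _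
  have hp2 : ¬ p ^ 2 ∣ Nat.card G := by
    intro h
    rw [hG', mul_assoc, pow_two] at h
    have h1 : p ∣ q ^ b * g₀ := Nat.dvd_of_mul_dvd_mul_left hp.pos h
    rcases (Nat.Prime.dvd_mul hp).mp h1 with h2 | h2
    · exact hpq ((Nat.prime_dvd_prime_iff_eq hp hq).mp (hp.dvd_of_dvd_pow h2))
    · have := Nat.le_of_dvd hg0 h2
      omega
  obtain ⟨Q₀⟩ : Nonempty (Sylow p G) := inferInstance
  have hQm : Nat.card Q₀ = p ^ (Nat.card G).factorization p := Q₀.card_eq_multiplicity
  have hfac : 1 ≤ (Nat.card G).factorization p :=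
    (hp.dvd_iff_one_le_factorization Nat.card_pos.ne').mp hdvd
  have hfac1 : (Nat.card G).factorization p = 1 := by
    by_contra hcon
    have h2 : 2 ≤ (Nat.card G).factorization p := by omega
    exact hp2 ((hp.pow_dvd_iff_le_factorization Nat.card_pos.ne').mpr h2)
  have hQc : Nat.card Q₀ = p := by
    rw [hQm, hfac1, pow_one]
  obtain ⟨P, hQ₀⟩ : ∃ P : Subgroup G, (Q₀ : Subgroup G) = P := ⟨_, rfl⟩
  let _ : Fintype P := Fintype.ofFinite _
  have hP : Nat.card P = p := by rw [← hQ₀]; exact hQc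
  have hburn := Cfsg.Agent.Lib.BrauerP.Main.not_normalizer_le hperf Q₀ hQc
  rw [hQ₀] at hburn
  have hodd : p ≠ 2 := by
    rintro rfl
    exact hburn (Cfsg.Agent.Lib.BrauerP.Reynolds.normalizer_le_of_two hP)
  set e := (Cn P).relIndex (Nn P) with he
  have hCN : Cn P ≤ Nn P := Subgroup.centralizer_le_normalizer _
  have hN : Nat.card (Nn P) = e * Nat.card (Cn P) := by
    have h1 := Subgroup.card_mul_index ((Cn P).subgroupOf (Nn P))
    have h2 : Nat.card ((Cn P).subgroupOf (Nn P)) = Nat.card (Cn P) :=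
      Nat.card_congr (Subgroup.subgroupOfEquivOfLe hCN).toEquiv
    rw [h2] at h1
    rw [← h1, he, mul_comm]
    rfl
  have he0 : 0 < e := by
    rcases Nat.eq_zero_or_pos e with h | h
    · rw [h, zero_mul] at hN
      exact absurd hN Nat.card_pos.ne'
    · exact h
  have he2 : 2 ≤ e := by
    by_contra hcon
    have h1 : e = 1 := by omega
    rw [h1, one_mul] at hN
    have h2 : Cn P = Nn P := Subgroup.eq_of_le_of_card_ge hCN (by rw [hN])
    apply hburn
    show Nn P ≤ Cn P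
    rw [h2]
  have hindex : (Nn P).index = Nat.card (Sylow p G) := by
    have h1 := Sylow.card_eq_index_normalizer Q₀
    subst hQ₀
    exact h1.symm
  obtain ⟨n, hn'⟩ : ∃ n, n = Nat.card (Sylow p G) := ⟨_, rfl⟩
  have hlin := Cfsg.Agent.Lib.BrauerP.Main.hlin_of_perfect (G := G) hperf
  obtain ⟨M, hM⟩ := Cfsg.Agent.Lib.BlockH.Basic.exists_isPModular hp
  have := finite_DD (p := p) (P := P) hP hp2
  let _ : Fintype (DD P p) := Fintype.ofFinite _
  have hcount : Nat.card (principalBlock M G) = e + (p - 1) / e := by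
    have h1 := (Cfsg.Agent.S0960.result p M hM hodd Q₀ hQc e (by rw [hQ₀])).1
    exact h1
  obtain ⟨D⟩ := exists_BD hM hP hp2 e hN hodd hcount
  -- `C(P) = P`
  obtain ⟨-, hDg⟩ := D₀_dvd D hp2 hq hG' hg hlin
  have hDle := Nat.le_of_dvd hg0 hDg
  have hCP : Cn P = P := by
    obtain ⟨i₀⟩ : Nonempty (Fin D.t) := ⟨⟨0, D.t_pos⟩⟩
    have hne : D.ν i₀ ≠ oneIrr G := by
      intro h
      have h1 := D.hνz i₀
      rw [h, D.hzone] at h1
      norm_num at h1
    have hmem : D.ν i₀ ∈ principalBlock M G := by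
      rw [mem_principal_iff hM hP hp2]
      obtain ⟨d, hd⟩ := D.hcsurj i₀
      refine ⟨d, ?_⟩
      rw [D.inner_ν i₀ d, if_pos hd, mul_one]
      exact_mod_cast D.ε_ne
    exact cent_of_small hP hp2 hM hmem hne (by rw [D.hνdeg]; omega)
  have hNp : Nat.card (Nn P) = p * e := by
    rw [hN, hCP, hP, mul_comm]
  have hn : Nat.card G = p * (e * n) := by
    have h1 := Subgroup.card_mul_index (Nn P)
    rw [hNp, hindex, ← hn'] at h1
    rw [← h1]
    ring
  -- the generator
  have hzz : ∃ z : G, orderOf z = p ∧ Subgroup.centralizer ({z} : Set G) = Subgroup.zpowers z := by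
    obtain ⟨z, hz, hz1⟩ : ∃ z ∈ P, z ≠ 1 := by
      obtain ⟨u, hu⟩ := Cfsg.Agent.Lib.BrauerP.Data.exists_ne_one hP
      exact ⟨u, u.2, fun h => hu (Subtype.ext h)⟩
    have hzP := eq_zpowers_of_mem hP hz hz1
    refine ⟨z, ?_, ?_⟩
    · rw [← hP, hzP, Nat.card_zpowers]
    · rw [← hzP, ← centralizer_singleton_eq hP hz hz1, hCP]
  refine ⟨hzz, ?_⟩
  rw [← hn']
  rcases D.hε with hε | hε
  · obtain ⟨h1, h2⟩ := plus_case D hp2 hcen hε hlin hCP hNp hodd he2 hn hq hG' hg
    exact ⟨h1, Or.inl h2⟩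
  · obtain ⟨h1, h2⟩ := minus_case D hp2 hcen hε hlin hCP hNp hodd he2 hn hq hG' hg
    exact ⟨h1, Or.inr h2⟩

end Final

end Cfsg.Agent.Lib.BrauerP.Tuan
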