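import Cfsg.Agent.Lib.BrauerP.Tuan.Plus

/-!
# Products of conjugacy classes and the principal block
-/

set_option autoImplicit false
set_option linter.unusedSectionVars false
set_option linter.unusedVariables false

namespace Cfsg.Agent.Lib.BrauerP.Tuan

open Cfsg Module MulAction
open Cfsg.Agent.Lib.Char.Basic Cfsg.Agent.Lib.Char.Ortho Cfsg.Agent.Lib.Char.Complete
open Cfsg.Agent.Lib.Char.Degree Cfsg.Agent.Lib.Char.Induced
open Cfsg.Agent.Lib.ExcP.Gram Cfsg.Agent.Lib.ExcP.Dual Cfsg.Agent.Lib.ExcP.Core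
open Cfsg.Agent.Lib.ExcP.Inst Cfsg.Agent.Lib.ExcP.BlockHA
open Cfsg.Agent.Lib.BrauerP.Data Cfsg.Agent.Lib.BrauerP.Data.BD Cfsg.Agent.Lib.BrauerP.Frob
open Cfsg.Agent.Lib.BrauerP.Fourier
open Cfsg.Agent.Lib.Char.ClassProd Cfsg.Agent.Lib.Char.ClassSum
open scoped ComplexConjugate Classical

universe u

variable {G : Type u} [Group G] [Fintype G] [Fintype (IrrCharacter G)] {p e : ℕ} [hp : Fact p.Prime]
  {P : Subgroup G} {hP : Nat.card P = p} [Fintype P] [Fintype (DD P p)]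

omit [Fintype P] [Fintype (DD P p)] in
/-- Frobenius' formula, with centralizers. -/
theorem count_eq (a b c : G) :
    (classProdCount a b c : ℂ) * (Nat.card (Subgroup.centralizer ({a} : Set G)) : ℂ) *
        (Nat.card (Subgroup.centralizer ({b} : Set G)) : ℂ) =
      (Nat.card G : ℂ) * ∑ χ : IrrCharacter G,
        (χ : G → ℂ) a * (χ : G → ℂ) b * conj ((χ : G → ℂ) c) / (χ : G → ℂ) 1 := by
  have h := card_product_eq a b c
  have hG : (Nat.card G : ℂ) ≠ 0 := card_ne_zero_complex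
  have ea : (Nat.card {x : G // IsConj a x} : ℂ) * (Nat.card (Subgroup.centralizer ({a} : Set G)) : ℂ) =
      (Nat.card G : ℂ) := by
    rw [← Nat.cast_mul, card_class_mul_card_centralizer]
  have eb : (Nat.card {x : G // IsConj b x} : ℂ) * (Nat.card (Subgroup.centralizer ({b} : Set G)) : ℂ) =
      (Nat.card G : ℂ) := by
    rw [← Nat.cast_mul, card_class_mul_card_centralizer]
  change (classProdCount a b c : ℂ) = _ at h
  rw [h]
  set S := ∑ χ : IrrCharacter G, (χ : G → ℂ) a * (χ : G → ℂ) b * conj ((χ : G → ℂ) c) / (χ : G → ℂ) 1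
  field_simp
  linear_combination S * (Nat.card {x : G // IsConj b x} : ℂ) * (Nat.card (Subgroup.centralizer ({b} : Set G)) : ℂ) * ea +
    S * (Nat.card G : ℂ) * eb

variable (D : BD P p e hP) (hp2 : ¬ p ^ 2 ∣ Nat.card G)

include hp2

/-- The sum for two elements of `P`. -/
theorem struct_split (hC : Cn P = P) {u₁ u₂ : P} (h₁ : u₁ ≠ 1) (h₂ : u₂ ≠ 1) (g : G) :
    ∑ χ : IrrCharacter G, (χ : G → ℂ) u₁ * (χ : G → ℂ) u₂ * conj ((χ : G → ℂ) g) / (χ : G → ℂ) 1 =
      1 + (∑ j ∈ setA D, conj ((j : G → ℂ) g) / (j : G → ℂ) 1) +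
        (∑ j ∈ setB D, conj ((j : G → ℂ) g) / (j : G → ℂ) 1) +
        ∑ i, (D.ν i : G → ℂ) u₁ * (D.ν i : G → ℂ) u₂ * conj ((D.ν i : G → ℂ) g) / (D.ν i : G → ℂ) 1 := by
  rw [sum_split D]
  have h1 : ∀ x : G, ((oneIrr G : IrrCharacter G) : G → ℂ) x = 1 := fun x => rfl
  have hA : ∑ j ∈ setA D, (j : G → ℂ) u₁ * (j : G → ℂ) u₂ * conj ((j : G → ℂ) g) / (j : G → ℂ) 1 =
      ∑ j ∈ setA D, conj ((j : G → ℂ) g) / (j : G → ℂ) 1 := by
    refine Finset.sum_congr rfl fun j hj => ?_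
    have h2 := (Finset.mem_filter.mp hj).2.1
    rw [D.val_z hp2 (j := j) (by rw [h2]; norm_num) h₁, D.val_z hp2 (j := j) (by rw [h2]; norm_num) h₂, h2]
    simp
  have hB : ∑ j ∈ setB D, (j : G → ℂ) u₁ * (j : G → ℂ) u₂ * conj ((j : G → ℂ) g) / (j : G → ℂ) 1 =
      ∑ j ∈ setB D, conj ((j : G → ℂ) g) / (j : G → ℂ) 1 := by
    refine Finset.sum_congr rfl fun j hj => ?_
    have h2 := (Finset.mem_filter.mp hj).2
    rw [D.val_z hp2 (j := j) (by rw [h2]; norm_num) h₁, D.val_z hp2 (j := j) (by rw [h2]; norm_num) h₂, h2]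
    simp
  have hCC : ∑ j ∈ setC D, (j : G → ℂ) u₁ * (j : G → ℂ) u₂ * conj ((j : G → ℂ) g) / (j : G → ℂ) 1 = 0 := by
    apply Finset.sum_eq_zero
    intro j hj
    obtain ⟨h4, h5⟩ := (Finset.mem_filter.mp hj).2
    rw [D.val_other hp2 hC h4 h5 h₁]
    simp
  rw [hA, hB, hCC]
  simp only [h1]
  simp
  ring

/-- The sum for an element `x` twice, and one of `P`. -/
theorem struct_split2 (hC : Cn P = P) {u : P} (hu : u ≠ 1) (x : G) :
    ∑ χ : IrrCharacter G, (χ : G → ℂ) x * (χ : G → ℂ) x * conj ((χ : G → ℂ) u) / (χ : G → ℂ) 1 =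
      1 + (∑ j ∈ setA D, (j : G → ℂ) x * (j : G → ℂ) x / (j : G → ℂ) 1) -
        (∑ j ∈ setB D, (j : G → ℂ) x * (j : G → ℂ) x / (j : G → ℂ) 1) +
        ∑ i, (D.ν i : G → ℂ) x * (D.ν i : G → ℂ) x * conj ((D.ν i : G → ℂ) u) / (D.ν i : G → ℂ) 1 := by
  rw [sum_split D]
  have h1 : ∀ x : G, ((oneIrr G : IrrCharacter G) : G → ℂ) x = 1 := fun x => rfl
  have hA : ∑ j ∈ setA D, (j : G → ℂ) x * (j : G → ℂ) x * conj ((j : G → ℂ) u) / (j : G → ℂ) 1 =
      ∑ j ∈ setA D, (j : G → ℂ) x * (j : G → ℂ) x / (j : G → ℂ) 1 := by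
    refine Finset.sum_congr rfl fun j hj => ?_
    have h2 := (Finset.mem_filter.mp hj).2.1
    rw [D.val_z hp2 (j := j) (by rw [h2]; norm_num) hu, h2]
    simp
  have hB : ∑ j ∈ setB D, (j : G → ℂ) x * (j : G → ℂ) x * conj ((j : G → ℂ) u) / (j : G → ℂ) 1 =
      -∑ j ∈ setB D, (j : G → ℂ) x * (j : G → ℂ) x / (j : G → ℂ) 1 := by
    rw [← Finset.sum_neg_distrib]
    refine Finset.sum_congr rfl fun j hj => ?_
    have h2 := (Finset.mem_filter.mp hj).2
    rw [D.val_z hp2 (j := j) (by rw [h2]; norm_num) hu, h2]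
    simp
    ring
  have hCC : ∑ j ∈ setC D, (j : G → ℂ) x * (j : G → ℂ) x * conj ((j : G → ℂ) u) / (j : G → ℂ) 1 = 0 := by
    apply Finset.sum_eq_zero
    intro j hj
    obtain ⟨h4, h5⟩ := (Finset.mem_filter.mp hj).2
    rw [D.val_other hp2 hC h4 h5 hu]
    simp
  rw [hA, hB, hCC]
  simp only [h1]
  simp
  ring

omit D hp2 [Fintype (IrrCharacter G)] [Fintype P] [Fintype (DD P p)] in
/-- The order of the centralizer of a nontrivial element of `P`. -/
theorem card_cent_of_mem (hP : Nat.card P = p) (hC : Cn P = P) {u : G} (hu : u ∈ P) (hu1 : u ≠ 1) :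
    Nat.card (Subgroup.centralizer ({u} : Set G)) = p := by
  rw [← centralizer_singleton_eq hP hu hu1, hC, hP]

/-- The values of an exceptional character on regular elements, `ε = 1`. -/
theorem plus_val [IsSimpleGroup G] (hcen : Subgroup.center G = ⊥) (hε : D.ε = 1) (hD : D.D₀ = e)
    (ha0 : ∀ i, aP (hP := hP) hp2 (D.ν i) = 0) (he2 : 2 ≤ e) (ht : D.t = 2)
    (hlin : ∀ j : IrrCharacter G, charDegree (j : G → ℂ) = 1 → j = oneIrr G) (hC : Cn P = P)
    (hN : Nat.card (Nn P) = p * e) {n : ℕ} (hG : Nat.card G = p * (e * n))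
    (i : Fin D.t) {g : G} (hg1 : g ≠ 1) (hreg : ¬ p ∣ orderOf g) :
    ∃ x : ℤ, (D.ν i : G → ℂ) g = x ∧ (x = -1 ∨ x = 0 ∨ x = 1) := by
  have hpp := hp.out.two_le
  have he0 : 0 < e := by omega
  have hn0 : 0 < n := by
    rcases Nat.eq_zero_or_pos n with h | h
    · rw [h, mul_zero, mul_zero] at hG
      exact absurd hG Nat.card_pos.ne'
    · exact h
  have hpC0 : (p : ℂ) ≠ 0 := by exact_mod_cast hp.out.ne_zero
  have heC0 : (e : ℂ) ≠ 0 := by exact_mod_cast he0.ne'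
  have hnC0 : (n : ℂ) ≠ 0 := by exact_mod_cast hn0.ne'
  have he1C0 : (e : ℂ) + 1 ≠ 0 := by exact_mod_cast (Nat.succ_ne_zero e)
  have hpe : p = 2 * e + 1 := by
    have h2 := D.hte
    rw [ht] at h2
    omega
  have hpC : (p : ℂ) = 2 * e + 1 := by
    rw [hpe]
    push_cast
    ring
  -- the other exceptional character
  obtain ⟨i', hii⟩ : ∃ i' : Fin D.t, i ≠ i' := by
    by_cases h : i.1 = 0
    · exact ⟨⟨1, by omega⟩, fun h2 => by simp [h2] at h⟩
    · exact ⟨⟨0, by omega⟩, fun h2 => h (by rw [h2])⟩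
  have hsum2 : ∀ f : Fin D.t → ℂ, ∑ k, f k = f i + f i' := by
    intro f
    have huniv : (Finset.univ : Finset (Fin D.t)) = {i, i'} := by
      symm
      apply Finset.eq_univ_of_card
      rw [Finset.card_pair hii, Fintype.card_fin, ht]
    rw [huniv, Finset.sum_pair hii]
  obtain ⟨hAdeg, hBdeg, hA2, hB2, hα, hβ, hW⟩ := plus_pair D hp2 hD ha0 he2 ht hlin hC hN hii
  obtain ⟨-, -, -, -, -, -, hW'⟩ := plus_pair D hp2 hD ha0 he2 ht hlin hC hN hii.symm
  obtain ⟨u, hu⟩ := Cfsg.Agent.Lib.BrauerP.Data.exists_ne_one hP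
  have hu1 : (u : G) ≠ 1 := fun h => hu (Subtype.ext h)
  have hui : u⁻¹ ≠ 1 := fun h => hu (inv_eq_one.mp h)
  set x := (D.ν i : G → ℂ) g with hx
  have hx' : (D.ν i' : G → ℂ) g = x := ν_reg D hp2 i' i hreg
  set η := sg D i u with hη
  set η' := sg D i' u with hη'
  have hWe : 2 * (((setA D).card : ℂ) + 1) = (e : ℂ) + 1 := by
    have : ((2 * (setA D).card + 1 : ℕ) : ℂ) = (e : ℂ) := by rw [hA2]
    push_cast at this
    rw [← this]
    ring
  have hηη : η * conj η = ((setA D).card : ℂ) + 1 := hW u hu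
  have hηη' : η' * conj η' = ((setA D).card : ℂ) + 1 := hW' u hu
  have hsumη : η + η' = -1 := by
    have := sum_all_sg D hp2 hu
    rwa [hsum2] at this
  have hconjsum : conj η + conj η' = -1 := by
    have := congrArg conj hsumη
    simpa using this
  have hηsq : η * η + η' * η' = -(e : ℂ) := by
    have h1 : η' = -1 - η := by linear_combination hsumη
    have h2 : conj η' = -1 - conj η := by linear_combination hconjsum
    have h3 : η + conj η = -1 := by
      linear_combination hηη' - hηη - conj η' * h1 - (-1 - η) * h2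
    have h5 : η' = conj η := by linear_combination hsumη - h3
    linear_combination (η + η' - 1) * hsumη - 2 * η * h5 - 2 * hηη - hWe
  -- the members of the block
  set y := conj x with hy
  set N := x * y with hNdef
  have hoddp : (p : ℂ) + 1 = 2 * ((e : ℂ) + 1) := by rw [hpC]; ring
  have hAsum : ∑ j ∈ setA D, conj ((j : G → ℂ) g) / (j : G → ℂ) 1 = (N - 1) / (2 * ((e : ℂ) + 1)) := by
    have h1 : ∀ j ∈ setA D, conj ((j : G → ℂ) g) / (j : G → ℂ) 1 =
        conj ((j : G → ℂ) g) / (2 * ((e : ℂ) + 1)) := by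
      intro j hj
      rw [← charDegree_natCast (isCharacter_of_isIrrCharacter j.2), (hAdeg j hj).2, ← hoddp]
      push_cast
      rfl
    rw [Finset.sum_congr rfl h1, ← Finset.sum_div, ← map_sum]
    congr 1
    have h2 : ∑ j ∈ setA D, (j : G → ℂ) g = N - 1 := by
      have := hα g
      rw [hNdef]
      linear_combination -this
    rw [h2, hNdef, hy]
    simp [mul_comm]
  have hBsum : ∑ j ∈ setB D, conj ((j : G → ℂ) g) / (j : G → ℂ) 1 = (N - y) / (2 * (e : ℂ)) := by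
    have h1 : ∀ j ∈ setB D, conj ((j : G → ℂ) g) / (j : G → ℂ) 1 =
        conj ((j : G → ℂ) g) / (2 * (e : ℂ)) := by
      intro j hj
      rw [← charDegree_natCast (isCharacter_of_isIrrCharacter j.2), (hBdeg j hj).2]
      have h3 : ((p - 1 : ℕ) : ℂ) = 2 * (e : ℂ) := by
        have : p - 1 = 2 * e := by omega
        rw [this]
        push_cast
        rfl
      rw [h3]
    rw [Finset.sum_congr rfl h1, ← Finset.sum_div, ← map_sum]
    congr 1
    have h2 : ∑ j ∈ setB D, (j : G → ℂ) g = N - x := by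
      have := hβ g hreg
      rw [hNdef]
      linear_combination -this
    rw [h2, hNdef, hy]
    simp [mul_comm]
  have hνi : (D.ν i : G → ℂ) u = η := by
    rw [val_ν' D hp2 i hu, hε, ← hη]
    simp
  have hνi' : (D.ν i' : G → ℂ) u = η' := by
    rw [val_ν' D hp2 i' hu, hε, ← hη']
    simp
  have hνinv : ∀ k : Fin D.t, (D.ν k : G → ℂ) (u⁻¹ : P) = conj ((D.ν k : G → ℂ) u) := by
    intro k
    have h1 : ((u⁻¹ : P) : G) = (u : G)⁻¹ := rfl
    rw [h1, char_inv_eq_conj (isCharacter_of_isIrrCharacter (D.ν k).2)]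
  have hνsum1 : ∑ k, (D.ν k : G → ℂ) u * (D.ν k : G → ℂ) u * conj ((D.ν k : G → ℂ) g) / (D.ν k : G → ℂ) 1 =
      -y := by
    rw [hsum2, hνi, hνi', ν_one, ν_one, hD, hx', ← hx, ← hy]
    have : η * η * y / (e : ℂ) + η' * η' * y / (e : ℂ) = (η * η + η' * η') * y / (e : ℂ) := by ring
    rw [this, hηsq]
    field_simp
  have hνsum2 : ∑ k, (D.ν k : G → ℂ) u * (D.ν k : G → ℂ) (u⁻¹ : P) * conj ((D.ν k : G → ℂ) g) /
      (D.ν k : G → ℂ) 1 = ((e : ℂ) + 1) * y / (e : ℂ) := by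
    simp only [hνinv]
    rw [hsum2, hνi, hνi', ν_one, ν_one, hD, hx', ← hx, ← hy, hηη, hηη']
    rw [← hWe]
    ring
  have hT1 := count_eq (u : G) (u : G) g
  have hT2 := count_eq (u : G) ((u⁻¹ : P) : G) g
  rw [card_cent_of_mem hP hC u.2 hu1, struct_split D hp2 hC hu hu g, hAsum, hBsum, hνsum1, hG] at hT1
  rw [card_cent_of_mem hP hC u.2 hu1, card_cent_of_mem hP hC (u⁻¹ : P).2 (fun h => hui (Subtype.ext h)),
    struct_split D hp2 hC hu hui g, hAsum, hBsum, hνsum2, hG] at hT2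
  set T₁ := classProdCount (u : G) (u : G) g with hT₁
  set T₂ := classProdCount (u : G) ((u⁻¹ : P) : G) g with hT₂
  -- the two key identities
  have hA1 : 2 * ((e : ℂ) + 1) * ((N - 1) / (2 * ((e : ℂ) + 1))) = N - 1 := by
    field_simp
  have hB1 : 2 * (e : ℂ) * ((N - y) / (2 * (e : ℂ))) = N - y := by
    field_simp
  have hC1 : (e : ℂ) * (((e : ℂ) + 1) * y / (e : ℂ)) = ((e : ℂ) + 1) * y := by
    field_simp
  have hpp0 : (p : ℂ) * (p : ℂ) ≠ 0 := mul_ne_zero hpC0 hpC0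
  have hK1 : 2 * ((e : ℂ) + 1) * (T₁ : ℂ) = (n : ℂ) * (N - ((e : ℂ) + 1) * y + (e : ℂ)) := by
    push_cast at hT1
    apply mul_left_cancel₀ hpp0
    linear_combination 2 * ((e : ℂ) + 1) * hT1 + (p : ℂ) * n * e * hA1 + (p : ℂ) * n * ((e : ℂ) + 1) * hB1 -
      (p : ℂ) * n * (N - ((e : ℂ) + 1) * y + (e : ℂ)) * hpC
  have hK2 : 2 * ((e : ℂ) + 1) * (T₂ : ℂ) = (n : ℂ) * (N + ((e : ℂ) + 1) * y + (e : ℂ)) := by
    push_cast at hT2
    apply mul_left_cancel₀ hpp0
    linear_combination 2 * ((e : ℂ) + 1) * hT2 + (p : ℂ) * n * e * hA1 + (p : ℂ) * n * ((e : ℂ) + 1) * hB1 +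
      2 * ((e : ℂ) + 1) * (p : ℂ) * n * hC1 -
      (p : ℂ) * n * (N + ((e : ℂ) + 1) * y + (e : ℂ)) * hpC
  -- `y` is rational
  have hyval : (n : ℂ) * y = (T₂ : ℂ) - (T₁ : ℂ) := by
    have h2 : (2 : ℂ) * ((e : ℂ) + 1) ≠ 0 := mul_ne_zero two_ne_zero he1C0
    apply mul_left_cancel₀ h2
    linear_combination (1 / 1 : ℂ) * hK1 - hK2
  have hxval : x = (((((T₂ : ℚ) - (T₁ : ℚ)) / (n : ℚ)) : ℚ) : ℂ) := by
    have h1 : x = conj y := by rw [hy, Complex.conj_conj]
    rw [h1]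
    have h2 : y = ((T₂ : ℂ) - (T₁ : ℂ)) / (n : ℂ) := by
      rw [← hyval]
      field_simp
    rw [h2]
    simp
  have hχ := isCharacter_of_isIrrCharacter (D.ν i).2
  obtain ⟨c, hc⟩ := exists_int_of_rat (isIntegral_char hχ g) _ hxval
  rw [← hx] at hc
  refine ⟨c, hc, ?_⟩
  have hyc : y = (c : ℂ) := by rw [hy, hc]; simp
  have hNc : N = (c : ℂ) * c := by rw [hNdef, hyc, hc]
  rw [hNc, hyc] at hK1 hK2
  have hK1Z : 2 * ((e : ℤ) + 1) * (T₁ : ℤ) = (n : ℤ) * ((c - 1) * (c - e)) := by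
    have : ((2 * ((e : ℤ) + 1) * (T₁ : ℤ) : ℤ) : ℂ) = (((n : ℤ) * ((c - 1) * (c - e)) : ℤ) : ℂ) := by
      push_cast
      linear_combination hK1
    exact_mod_cast this
  have hK2Z : 2 * ((e : ℤ) + 1) * (T₂ : ℤ) = (n : ℤ) * ((c + 1) * (c + e)) := by
    have : ((2 * ((e : ℤ) + 1) * (T₂ : ℤ) : ℤ) : ℂ) = (((n : ℤ) * ((c + 1) * (c + e)) : ℤ) : ℂ) := by
      push_cast
      linear_combination hK2
    exact_mod_cast this
  have hnZ : (0 : ℤ) < n := by exact_mod_cast hn0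
  have heZ : (2 : ℤ) ≤ e := by exact_mod_cast he2
  have hpos1 : 0 ≤ (c - 1) * (c - e) := by
    have h1 : 0 ≤ (n : ℤ) * ((c - 1) * (c - e)) := by
      rw [← hK1Z]
      positivity
    exact (mul_nonneg_iff_of_pos_left hnZ).mp h1
  have hpos2 : 0 ≤ (c + 1) * (c + e) := by
    have h1 : 0 ≤ (n : ℤ) * ((c + 1) * (c + e)) := by
      rw [← hK2Z]
      positivity
    exact (mul_nonneg_iff_of_pos_left hnZ).mp h1
  -- the size
  have hdegν : charDegree (D.ν i : G → ℂ) = e := by rw [D.hνdeg, hD]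
  have hν1 : D.ν i ≠ oneIrr G := by
    intro h
    have h1 := D.hνz i
    rw [h, D.hzone] at h1
    norm_num at h1
  have hnormc : ‖(D.ν i : G → ℂ) g‖ = (|c| : ℝ) := by
    rw [← hx, hc, Complex.norm_intCast]
  have hle : |c| ≤ e := by
    have h1 := norm_le_charDegree hχ g
    rw [hnormc, hdegν] at h1
    exact_mod_cast h1
  have hne : |c| ≠ e := by
    intro h
    apply hg1
    apply eq_one_of_norm_eq hcen hν1
    rw [hnormc, hdegν]
    exact_mod_cast h
  have hlt : |c| < e := lt_of_le_of_ne hle hne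
  rw [abs_lt] at hlt
  obtain ⟨h5, h6⟩ := hlt
  have h7 : c ≤ 1 := by
    by_contra hcon
    push Not at hcon
    have : (c - 1) * (c - e) < 0 := mul_neg_of_pos_of_neg (by omega) (by omega)
    omega
  have h8 : -1 ≤ c := by
    by_contra hcon
    push Not at hcon
    have : (c + 1) * (c + e) < 0 := mul_neg_of_neg_of_pos (by omega) (by omega)
    omega
  omega

/-- The order of a subgroup of `2`-power order, `ε = 1`. -/
theorem plus_dvd [IsSimpleGroup G] (hcen : Subgroup.center G = ⊥) (hε : D.ε = 1) (hD : D.D₀ = e)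
    (ha0 : ∀ i, aP (hP := hP) hp2 (D.ν i) = 0) (he2 : 2 ≤ e) (ht : D.t = 2) (hodd : p ≠ 2)
    (hoddE : Odd e)
    (hlin : ∀ j : IrrCharacter G, charDegree (j : G → ℂ) = 1 → j = oneIrr G) (hC : Cn P = P)
    (hN : Nat.card (Nn P) = p * e) {n : ℕ} (hG : Nat.card G = p * (e * n))
    (Q : Subgroup G) {b : ℕ} (hQ : Nat.card Q = 2 ^ b) : 2 ^ b ∣ e ^ 2 - 1 := by
  have hpp := hp.out.two_le
  let _ : Fintype Q := Fintype.ofFinite _
  have hQp : IsPGroup 2 Q := IsPGroup.of_card hQ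
  let i : Fin D.t := ⟨0, by omega⟩
  have hχ := isCharacter_of_isIrrCharacter (D.ν i).2
  have hdegν : charDegree (D.ν i : G → ℂ) = e := by rw [D.hνdeg, hD]
  -- the values
  have hval : ∀ y : Q, tn D i i y = if y = 1 then (e : ℂ) ^ 2 else 1 := by
    intro y
    by_cases hy : y = 1
    · subst hy
      rw [if_pos rfl]
      have h1 : (((1 : Q) : G)) = 1 := rfl
      rw [h1, tn_one, hD]
    · rw [if_neg hy]
      have hy1 : (y : G) ≠ 1 := fun h => hy (Subtype.ext h)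
      obtain ⟨j, hj⟩ := (IsPGroup.iff_orderOf.mp hQp) y
      rw [← Subgroup.orderOf_coe] at hj
      have hreg : ¬ p ∣ orderOf (y : G) := by
        intro h
        rw [hj] at h
        have h2 := (Nat.prime_dvd_prime_iff_eq hp.out Nat.prime_two).mp (hp.out.dvd_of_dvd_pow h)
        exact hodd h2
      obtain ⟨x, hx, hx1⟩ := plus_val D hp2 hcen hε hD ha0 he2 ht hlin hC hN hG i hy1 hreg
      have hne := val_ne_zero_of_odd hχ hj (by rw [hdegν]; exact hoddE)
      simp only [tn]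
      rw [hx]
      rcases hx1 with rfl | rfl | rfl
      · simp
      · exfalso
        apply hne
        rw [hx]
        simp
      · simp
  obtain ⟨s, hs⟩ := exists_sum_char Q (isCharacter_tn D i i)
  simp only [hval] at hs
  have hsum : ∑ y : Q, (if y = 1 then (e : ℂ) ^ 2 else 1) = (e : ℂ) ^ 2 + ((Nat.card Q : ℂ) - 1) := by
    have h1 : ∀ y : Q, (if y = 1 then (e : ℂ) ^ 2 else 1) = (if y = 1 then (e : ℂ) ^ 2 - 1 else 0) + 1 := by
      intro y
      split_ifs <;> ring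
    simp only [h1]
    rw [Finset.sum_add_distrib, Finset.sum_ite_eq' Finset.univ (1 : Q), if_pos (Finset.mem_univ _),
      Finset.sum_const, Finset.card_univ, ← Nat.card_eq_fintype_card, nsmul_eq_mul]
    ring
  rw [hsum, hQ] at hs
  have he1 : 1 ≤ e ^ 2 := Nat.one_le_pow _ _ (by omega)
  have h2 : e ^ 2 - 1 + 2 ^ b = 2 ^ b * s := by
    have h3 : ((e ^ 2 - 1 + 2 ^ b : ℕ) : ℂ) = ((2 ^ b * s : ℕ) : ℂ) := by
      rw [Nat.cast_add, Nat.cast_sub he1]
      push_cast at hs ⊢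
      linear_combination hs
    exact_mod_cast h3
  have h3 : 2 ^ b ∣ e ^ 2 - 1 + 2 ^ b := ⟨s, h2⟩
  exact (Nat.dvd_add_iff_left (dvd_refl _)).mpr h3

end Cfsg.Agent.Lib.BrauerP.Tuan
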