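import Cfsg.Agent.Lib.BrauerP.Tuan.Count

/-!
# The case `ε = -1`, `t = 2`: tensor products of exceptional characters
-/

set_option autoImplicit false
set_option linter.unusedSectionVars false
set_option linter.unusedVariables false

namespace Cfsg.Agent.Lib.BrauerP.Tuan

open Cfsg Module MulAction
open Cfsg.Agent.Lib.Char.Basic Cfsg.Agent.Lib.Char.Ortho Cfsg.Agent.Lib.Char.Complete
open Cfsg.Agent.Lib.Char.Degree Cfsg.Agent.Lib.Char.Induced
open Cfsg.Agent.Lib.ExcP.Gram Cfsg.Agent.Lib.ExcP.Dual Cfsg.Agent.Lib.ExcP.Core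
open Cfsg.Agent.Lib.ExcP.Inst Cfsg.Agent.Lib.ExcP.BlockHA
open Cfsg.Agent.Lib.BrauerP.Data Cfsg.Agent.Lib.BrauerP.Data.BD Cfsg.Agent.Lib.BrauerP.Frob
open Cfsg.Agent.Lib.BrauerP.Fourier
open scoped ComplexConjugate Classical

universe u

/-- The arithmetic of the tensor square, `ε = -1`. -/
theorem arith_minus {e p XA SA XB SB M SC : ℕ} (hp : p = 2 * e + 1) (he : 0 < e) (hSA : 2 * XA ≤ SA)
    (hdeg : ((e : ℤ) + 1) ^ 2 = 1 + ((XA : ℤ) + p * SA - p * XA) + (p * SB + p * XB - XB) +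
      M * ((e : ℤ) + 1) + p * SC)
    (hmult : e + 1 = 1 + SA + SB + M + SC) :
    XB = 0 ∧ SA + SB + SC = 2 * XA + 1 ∧ 2 * XA + M + 1 = e := by
  have heZ : (e : ℤ) = SA + SB + M + SC := by
    have : e = SA + SB + M + SC := by omega
    exact_mod_cast this
  have he0 : (e : ℤ) ≠ 0 := by exact_mod_cast he.ne'
  have hpZ : (p : ℤ) = 2 * e + 1 := by exact_mod_cast hp
  have hkey : (e : ℤ) * (2 * (XA : ℤ) - 2 * XB - ((e : ℤ) - 1 - M)) = 0 := by
    have h2 : (SC : ℤ) = e - SA - SB - M := by linarith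
    rw [h2, hpZ] at hdeg
    linear_combination hdeg
  have h3 := (mul_eq_zero.mp hkey).resolve_left he0
  have h4 : 2 * (XA : ℤ) + 1 + M = 2 * XB + e := by linarith
  have h5 : 2 * XA + 1 + M = 2 * XB + e := by exact_mod_cast h4
  obtain ⟨r, rfl⟩ : ∃ r, SA = 2 * XA + r := ⟨SA - 2 * XA, by omega⟩
  have h6 : XB = 0 := by omega
  refine ⟨h6, by omega, by omega⟩

/-- The arithmetic of the tensor product of two different exceptional characters, `ε = -1`. -/
theorem arith_minus_beta {e p XB M SC : ℕ} (hp : p = 2 * e + 1) (he : 0 < e) (heven : Even e)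
    (hMSC : M + SC = 1)
    (hdeg : ((e : ℤ) + 1) ^ 2 = (p * 0 + p * XB - XB) + M * ((e : ℤ) + 1) + p * SC) :
    M = 0 ∧ SC = 1 ∧ e = 2 * XB := by
  have he0 : (e : ℤ) ≠ 0 := by exact_mod_cast he.ne'
  have hpZ : (p : ℤ) = 2 * e + 1 := by exact_mod_cast hp
  rw [hpZ] at hdeg
  have hM : M = 0 ∨ M = 1 := by omega
  rcases hM with rfl | rfl
  · have hSC : SC = 1 := by omega
    subst hSC
    refine ⟨rfl, rfl, ?_⟩
    have h1 : (e : ℤ) * ((e : ℤ) - 2 * XB) = 0 := by
      push_cast at hdeg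
      linear_combination hdeg
    have h2 := (mul_eq_zero.mp h1).resolve_left he0
    have h3 : (e : ℤ) = ((2 * XB : ℕ) : ℤ) := by
      push_cast
      linarith
    exact_mod_cast h3
  · exfalso
    have hSC : SC = 0 := by omega
    subst hSC
    have h1 : (e : ℤ) * ((e : ℤ) + 1 - 2 * XB) = 0 := by
      push_cast at hdeg
      linear_combination hdeg
    have h2 := (mul_eq_zero.mp h1).resolve_left he0
    have h3 : e + 1 = 2 * XB := by
      have : (e : ℤ) + 1 = 2 * XB := by linarith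
      exact_mod_cast this
    obtain ⟨k, hk⟩ := heven
    omega

variable {G : Type u} [Group G] [Fintype G] [Fintype (IrrCharacter G)] {p e : ℕ} [hp : Fact p.Prime]
  {P : Subgroup G} {hP : Nat.card P = p} [Fintype P] [Fintype (DD P p)]

variable (D : BD P p e hP) (hp2 : ¬ p ^ 2 ∣ Nat.card G)

include hp2

/-- The constituents of `ν ν̄`, in the case `ε = -1`. -/
theorem minus_alpha (hpe : p = 2 * e + 1) (hD : D.D₀ = e + 1) (ha1 : ∀ i, aP (hP := hP) hp2 (D.ν i) = 1)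
    (he0 : 0 < e)
    (hlin : ∀ j : IrrCharacter G, charDegree (j : G → ℂ) = 1 → j = oneIrr G) (hC : Cn P = P)
    (hA3 : ∀ j ∈ setA D, aP (hP := hP) hp2 j ≠ 3)
    (i : Fin D.t) {m : IrrCharacter G → ℕ} (hm1 : ∀ j : IrrCharacter G, classInner (tn D i i) (j : G → ℂ) = m j)
    (hm2 : ∀ g, tn D i i g = ∑ j : IrrCharacter G, (m j : ℂ) * (j : G → ℂ) g) :
    m (oneIrr G) = 1 ∧ (∀ j ∈ setA D, 0 < m j → aP (hP := hP) hp2 j = 2) ∧
      (∀ j ∈ setB D, m j = 0) ∧
      (∃ j₀ ∈ setC D, m j₀ = 1 ∧ aP (hP := hP) hp2 j₀ = 1 ∧ ∀ j ∈ setC D, j ≠ j₀ → m j = 0) ∧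
      2 * (∑ j ∈ setA D, m j) + (∑ i', m (D.ν i')) + 1 = e := by
  have hp1 := hp.out.two_le
  have hone : m (oneIrr G) = 1 := by
    have h1 := hm1 (oneIrr G)
    rw [tn_inner_one, if_pos rfl] at h1
    exact_mod_cast h1.symm
  have hp0 : (p : ℂ) ≠ 0 := by exact_mod_cast hp.out.ne_zero
  have hpC : (p : ℂ) = 2 * e + 1 := by
    rw [hpe]
    push_cast
    ring
  have hdeg : ∑ j, m j * charDegree (j : G → ℂ) = (e + 1) ^ 2 := by
    have h1 := tensor_deg hm2
    rw [tn_one, hD] at h1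
    have h2 : ((((e + 1) ^ 2 : ℕ)) : ℂ) = ((∑ j, m j * charDegree (j : G → ℂ) : ℕ) : ℂ) := by
      rw [← h1]
      push_cast
      rfl
    exact_mod_cast h2.symm
  have hmult : ∑ j, m j * aP (hP := hP) hp2 j = e + 1 := by
    have h1 := tensor_sumP (hP := hP) hp2 hm2
    rw [sum_tn D hp2, if_pos rfl, hD] at h1
    have h2 : ((∑ j, m j * aP (hP := hP) hp2 j : ℕ) : ℂ) = ((e + 1 : ℕ) : ℂ) := by
      apply mul_left_cancel₀ hp0
      rw [← h1]
      push_cast
      rw [hpC]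
      ring
    exact_mod_cast h2
  have h1 := split_deg D hp2 hlin hC m
  rw [hdeg, hD, hone] at h1
  have h2 := split_a D hp2 m ha1
  rw [hmult, hone, mul_one] at h2
  have hSA : 2 * (∑ j ∈ setA D, m j) ≤ ∑ j ∈ setA D, m j * aP (hP := hP) hp2 j := by
    rw [Finset.mul_sum]
    apply Finset.sum_le_sum
    intro j hj
    have := (deg_setA D hp2 hlin hj).1
    rw [mul_comm]
    exact Nat.mul_le_mul_left _ this
  have hdeg' : ((e : ℤ) + 1) ^ 2 = 1 + (((∑ j ∈ setA D, m j : ℕ) : ℤ) +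
      p * ((∑ j ∈ setA D, m j * aP (hP := hP) hp2 j : ℕ) : ℤ) - p * ((∑ j ∈ setA D, m j : ℕ) : ℤ)) +
      (p * ((∑ j ∈ setB D, m j * aP (hP := hP) hp2 j : ℕ) : ℤ) + p * ((∑ j ∈ setB D, m j : ℕ) : ℤ) -
        ((∑ j ∈ setB D, m j : ℕ) : ℤ)) + ((∑ i', m (D.ν i') : ℕ) : ℤ) * ((e : ℤ) + 1) +
      p * ((∑ j ∈ setC D, m j * aP (hP := hP) hp2 j : ℕ) : ℤ) := by
    push_cast at h1 ⊢
    linarith
  obtain ⟨h3, h4, h5⟩ := arith_minus hpe he0 hSA hdeg' h2
  have hmB : ∀ j ∈ setB D, m j = 0 := fun j hj => Finset.sum_eq_zero_iff.mp h3 j hj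
  have hSB : ∑ j ∈ setB D, m j * aP (hP := hP) hp2 j = 0 :=
    Finset.sum_eq_zero (fun j hj => by rw [hmB j hj, zero_mul])
  rw [hSB, add_zero] at h4
  -- `SA = 2 XA`
  have hAle : ∀ j ∈ setA D, m j * 2 ≤ m j * aP (hP := hP) hp2 j := fun j hj =>
    Nat.mul_le_mul_left _ (deg_setA D hp2 hlin hj).1
  have hSA2 : ∑ j ∈ setA D, m j * aP (hP := hP) hp2 j = 2 * (∑ j ∈ setA D, m j) := by
    by_contra hne
    have h6 : ∃ j ∈ setA D, m j * 2 ≠ m j * aP (hP := hP) hp2 j := by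
      by_contra hcon
      push Not at hcon
      apply hne
      rw [Finset.mul_sum]
      refine Finset.sum_congr rfl fun j hj => ?_
      rw [← hcon j hj]
      ring
    obtain ⟨j, hj, hj2⟩ := h6
    have h7 := hAle j hj
    have h8 : m j * 2 + 1 ≤ m j * aP (hP := hP) hp2 j := by omega
    -- the excess is at most one
    have h9 : ∑ k ∈ setA D, m k * aP (hP := hP) hp2 k ≤ 2 * (∑ k ∈ setA D, m k) + 1 := by omega
    have h10 : m j * aP (hP := hP) hp2 j + ∑ k ∈ (setA D).erase j, m k * 2 ≤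
        ∑ k ∈ setA D, m k * aP (hP := hP) hp2 k := by
      rw [← Finset.add_sum_erase _ _ hj]
      apply Nat.add_le_add_left
      exact Finset.sum_le_sum (fun k hk => hAle k (Finset.mem_of_mem_erase hk))
    have h11 : 2 * (∑ k ∈ setA D, m k) = m j * 2 + ∑ k ∈ (setA D).erase j, m k * 2 := by
      rw [← Finset.add_sum_erase _ _ hj, mul_add, Finset.mul_sum]
      congr 1
      · ring
      · exact Finset.sum_congr rfl fun k _ => by ring
    have h12 : m j * aP (hP := hP) hp2 j = m j * 2 + 1 := by omega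
    have hmj : 0 < m j := by
      rcases Nat.eq_zero_or_pos (m j) with h0 | h0
      · rw [h0] at h12
        omega
      · exact h0
    have h13 : m j * (aP (hP := hP) hp2 j - 2) = 1 := by
      have := (deg_setA D hp2 hlin hj).1
      obtain ⟨a', ha'⟩ : ∃ a', aP (hP := hP) hp2 j = a' + 2 := ⟨aP (hP := hP) hp2 j - 2, by omega⟩
      rw [ha'] at h12 ⊢
      simp only [Nat.add_sub_cancel]
      rw [mul_add] at h12
      omega
    have h14 : aP (hP := hP) hp2 j - 2 = 1 := Nat.eq_one_of_mul_eq_one_left h13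
    have := (deg_setA D hp2 hlin hj).1
    exact hA3 j hj (by omega)
  have hSC : ∑ j ∈ setC D, m j * aP (hP := hP) hp2 j = 1 := by omega
  refine ⟨hone, ?_, hmB, ?_, h5⟩
  · intro j hj hpos
    have h10 : ∑ j ∈ setA D, m j * aP (hP := hP) hp2 j = ∑ j ∈ setA D, m j * 2 := by
      rw [hSA2, Finset.mul_sum]
      refine Finset.sum_congr rfl fun j _ => ?_
      ring
    have h11 := (Finset.sum_eq_sum_iff_of_le hAle).mp h10.symm j hj
    exact (Nat.eq_of_mul_eq_mul_left hpos h11).symm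
  · -- the unique member of `C`
    have hex : ∃ j₀ ∈ setC D, m j₀ * aP (hP := hP) hp2 j₀ ≠ 0 := by
      by_contra hcon
      push Not at hcon
      rw [Finset.sum_eq_zero hcon] at hSC
      omega
    obtain ⟨j₀, hj₀, hne⟩ := hex
    have h6 := Finset.add_sum_erase _ (fun j => m j * aP (hP := hP) hp2 j) hj₀
    simp only [hSC] at h6
    have h7 : m j₀ * aP (hP := hP) hp2 j₀ = 1 := by omega
    have h8 : ∑ j ∈ (setC D).erase j₀, m j * aP (hP := hP) hp2 j = 0 := by omega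
    refine ⟨j₀, hj₀, Nat.eq_one_of_mul_eq_one_right h7, Nat.eq_one_of_mul_eq_one_left h7, ?_⟩
    intro j hj hjne
    have h9 := Finset.sum_eq_zero_iff.mp h8 j (Finset.mem_erase.mpr ⟨hjne, hj⟩)
    have h10 := (deg_setC D hp2 hC hj).1
    exact (Nat.mul_eq_zero.mp h9).resolve_right (by omega)

/-- The constituents of `ν ν̄'`, in the case `ε = -1`. -/
theorem minus_beta (hpe : p = 2 * e + 1) (hD : D.D₀ = e + 1) (ha1 : ∀ i, aP (hP := hP) hp2 (D.ν i) = 1)
    (he0 : 0 < e) (heven : Even e)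
    (hlin : ∀ j : IrrCharacter G, charDegree (j : G → ℂ) = 1 → j = oneIrr G) (hC : Cn P = P)
    (hB1 : ∀ j ∈ setB D, aP (hP := hP) hp2 j ≠ 1)
    {i i' : Fin D.t} (hii : i ≠ i') {m : IrrCharacter G → ℕ}
    (hm1 : ∀ j : IrrCharacter G, classInner (tn D i i') (j : G → ℂ) = m j)
    (hm2 : ∀ g, tn D i i' g = ∑ j : IrrCharacter G, (m j : ℂ) * (j : G → ℂ) g) :
    m (oneIrr G) = 0 ∧ (∀ j ∈ setA D, m j = 0) ∧ (∀ j ∈ setB D, 0 < m j → aP (hP := hP) hp2 j = 0) ∧
      (∀ i'', m (D.ν i'') = 0) ∧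
      (∃ j₀ ∈ setC D, m j₀ = 1 ∧ aP (hP := hP) hp2 j₀ = 1 ∧ ∀ j ∈ setC D, j ≠ j₀ → m j = 0) ∧
      e = 2 * (∑ j ∈ setB D, m j) := by
  have hp1 := hp.out.two_le
  have hone : m (oneIrr G) = 0 := by
    have h1 := hm1 (oneIrr G)
    rw [tn_inner_one, if_neg hii] at h1
    exact_mod_cast h1.symm
  have hp0 : (p : ℂ) ≠ 0 := by exact_mod_cast hp.out.ne_zero
  have hpC : (p : ℂ) = 2 * e + 1 := by
    rw [hpe]
    push_cast
    ring
  have hdeg : ∑ j, m j * charDegree (j : G → ℂ) = (e + 1) ^ 2 := by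
    have h1 := tensor_deg hm2
    rw [tn_one, hD] at h1
    have h2 : ((((e + 1) ^ 2 : ℕ)) : ℂ) = ((∑ j, m j * charDegree (j : G → ℂ) : ℕ) : ℂ) := by
      rw [← h1]
      push_cast
      rfl
    exact_mod_cast h2.symm
  have hmult : ∑ j, m j * aP (hP := hP) hp2 j = 1 := by
    have h1 := tensor_sumP (hP := hP) hp2 hm2
    rw [sum_tn D hp2, if_neg hii, hD] at h1
    have h2 : ((∑ j, m j * aP (hP := hP) hp2 j : ℕ) : ℂ) = ((1 : ℕ) : ℂ) := by
      apply mul_left_cancel₀ hp0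
      rw [← h1]
      push_cast
      rw [hpC]
      ring
    exact_mod_cast h2
  have h1 := split_deg D hp2 hlin hC m
  rw [hdeg, hD, hone] at h1
  have h2 := split_a D hp2 m ha1
  rw [hmult, hone, mul_one, zero_add] at h2
  have hSA : 2 * (∑ j ∈ setA D, m j) ≤ ∑ j ∈ setA D, m j * aP (hP := hP) hp2 j := by
    rw [Finset.mul_sum]
    apply Finset.sum_le_sum
    intro j hj
    have := (deg_setA D hp2 hlin hj).1
    rw [mul_comm]
    exact Nat.mul_le_mul_left _ this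
  have hXA : ∑ j ∈ setA D, m j = 0 := by omega
  have hmA : ∀ j ∈ setA D, m j = 0 := fun j hj => Finset.sum_eq_zero_iff.mp hXA j hj
  have hSA0 : ∑ j ∈ setA D, m j * aP (hP := hP) hp2 j = 0 :=
    Finset.sum_eq_zero (fun j hj => by rw [hmA j hj, zero_mul])
  -- `SB = 0`
  have hSB : ∑ j ∈ setB D, m j * aP (hP := hP) hp2 j = 0 := by
    by_contra hne
    obtain ⟨j, hj, hj2⟩ := Finset.exists_ne_zero_of_sum_ne_zero hne
    have h6 : m j * aP (hP := hP) hp2 j ≤ ∑ j ∈ setB D, m j * aP (hP := hP) hp2 j :=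
      Finset.single_le_sum (f := fun j => m j * aP (hP := hP) hp2 j) (fun _ _ => Nat.zero_le _) hj
    have h7 : m j * aP (hP := hP) hp2 j = 1 := by omega
    exact hB1 j hj (Nat.eq_one_of_mul_eq_one_left h7)
  rw [hSA0, hSB, zero_add, zero_add] at h2
  rw [hXA, hSA0, hSB] at h1
  have hdeg' : ((e : ℤ) + 1) ^ 2 = ((p : ℤ) * 0 + p * ((∑ j ∈ setB D, m j : ℕ) : ℤ) -
        ((∑ j ∈ setB D, m j : ℕ) : ℤ)) + ((∑ i', m (D.ν i') : ℕ) : ℤ) * ((e : ℤ) + 1) +
      p * ((∑ j ∈ setC D, m j * aP (hP := hP) hp2 j : ℕ) : ℤ) := by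
    push_cast at h1 ⊢
    linarith
  obtain ⟨h3, h4, h5⟩ := arith_minus_beta hpe he0 heven h2.symm hdeg'
  refine ⟨hone, hmA, ?_, ?_, ?_, h5⟩
  · intro j hj hpos
    have h6 := Finset.sum_eq_zero_iff.mp hSB j hj
    exact (Nat.mul_eq_zero.mp h6).resolve_left (by omega)
  · exact fun i'' => Finset.sum_eq_zero_iff.mp h3 i'' (Finset.mem_univ _)
  · have hex : ∃ j₀ ∈ setC D, m j₀ * aP (hP := hP) hp2 j₀ ≠ 0 := by
      by_contra hcon
      push Not at hcon
      rw [Finset.sum_eq_zero hcon] at h4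
      omega
    obtain ⟨j₀, hj₀, hne⟩ := hex
    have h6 := Finset.add_sum_erase _ (fun j => m j * aP (hP := hP) hp2 j) hj₀
    simp only [h4] at h6
    have h7 : m j₀ * aP (hP := hP) hp2 j₀ = 1 := by omega
    have h8 : ∑ j ∈ (setC D).erase j₀, m j * aP (hP := hP) hp2 j = 0 := by omega
    refine ⟨j₀, hj₀, Nat.eq_one_of_mul_eq_one_right h7, Nat.eq_one_of_mul_eq_one_left h7, ?_⟩
    intro j hj hjne
    have h9 := Finset.sum_eq_zero_iff.mp h8 j (Finset.mem_erase.mpr ⟨hjne, hj⟩)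
    have h10 := (deg_setC D hp2 hC hj).1
    exact (Nat.mul_eq_zero.mp h9).resolve_right (by omega)

omit D hp2 [Fintype G] [Fintype (IrrCharacter G)] [Fintype P] [Fintype (DD P p)] in
theorem nat_le_one_of_sum_sq {ι : Type*} (S : Finset ι) (n : ι → ℕ)
    (h : ∑ j ∈ S, n j * n j = ∑ j ∈ S, n j) : ∀ j ∈ S, n j ≤ 1 := by
  intro j hj
  have h3 := (Finset.sum_eq_sum_iff_of_le (fun j _ => Nat.le_mul_self (n j))).mp h.symm j hj
  by_contra hcon
  push Not at hcon
  nlinarith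

omit D hp2 [Fintype G] [Fintype (IrrCharacter G)] [Fintype P] [Fintype (DD P p)] in
theorem nat_sum_le_card {ι : Type*} (S : Finset ι) (n : ι → ℕ) (h : ∀ j ∈ S, n j ≤ 1) :
    ∑ j ∈ S, n j ≤ S.card := by
  calc ∑ j ∈ S, n j ≤ ∑ _j ∈ S, 1 := Finset.sum_le_sum h
    _ = S.card := by simp

omit D hp2 [Fintype G] [Fintype (IrrCharacter G)] [Fintype P] [Fintype (DD P p)] in
theorem nat_eq_one_of_sum_eq_card {ι : Type*} (S : Finset ι) (n : ι → ℕ) (h1 : ∀ j ∈ S, n j ≤ 1)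
    (h2 : ∑ j ∈ S, n j = S.card) : ∀ j ∈ S, n j = 1 := by
  have h3 : ∑ j ∈ S, n j = ∑ _j ∈ S, 1 := by rw [h2]; simp
  exact (Finset.sum_eq_sum_iff_of_le h1).mp h3

omit D hp2 [Fintype G] [Fintype (IrrCharacter G)] [Fintype P] [Fintype (DD P p)] in
/-- A rational number whose double plus one squares to a prime does not exist. -/
theorem no_rat_sq (r : ℚ) (h : (2 * r + 1) ^ 2 = (p : ℚ)) : False := by
  have h1 : Irrational (Real.sqrt (p : ℝ)) := hp.out.irrational_sqrt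
  apply h1
  refine ⟨|2 * r + 1|, ?_⟩
  have h2 : ((2 * (r : ℝ) + 1)) ^ 2 = (p : ℝ) := by exact_mod_cast h
  rw [← h2, Real.sqrt_sq_eq_abs]
  push_cast
  rfl

/-- The structure of the principal block, for a pair of exceptional characters, `ε = -1`. -/
theorem minus_pair (hε : D.ε = -1) (hpe : p = 2 * e + 1) (hD : D.D₀ = e + 1)
    (ha1 : ∀ i, aP (hP := hP) hp2 (D.ν i) = 1) (he0 : 0 < e) (heven : Even e) (ht : D.t = 2)
    (hlin : ∀ j : IrrCharacter G, charDegree (j : G → ℂ) = 1 → j = oneIrr G) (hC : Cn P = P)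
    (hN : Nat.card (Nn P) = p * e)
    (hA3 : ∀ j ∈ setA D, aP (hP := hP) hp2 j ≠ 3) (hB1 : ∀ j ∈ setB D, aP (hP := hP) hp2 j ≠ 1)
    {i i' : Fin D.t} (hii : i ≠ i') :
    (∀ j ∈ setA D, aP (hP := hP) hp2 j = 2 ∧ charDegree (j : G → ℂ) = p + 1) ∧
    (∀ j ∈ setB D, aP (hP := hP) hp2 j = 0 ∧ charDegree (j : G → ℂ) = p - 1) ∧
    2 * (setA D).card + 2 = e ∧ 2 * (setB D).card = e := by
  have hp1 := hp.out.two_le
  have hp0 : (p : ℂ) ≠ 0 := by exact_mod_cast hp.out.ne_zero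
  have he0' : (e : ℂ) ≠ 0 := by exact_mod_cast he0.ne'
  have hpC : (p : ℂ) = 2 * e + 1 := by
    rw [hpe]
    push_cast
    ring
  have hsum2 : ∀ f : Fin D.t → ℂ, ∑ k, f k = f i + f i' := by
    intro f
    have huniv : (Finset.univ : Finset (Fin D.t)) = {i, i'} := by
      symm
      apply Finset.eq_univ_of_card
      rw [Finset.card_pair hii, Fintype.card_fin, ht]
    rw [huniv, Finset.sum_pair hii]
  have hsum2N : ∀ f : Fin D.t → ℕ, ∑ k, f k = f i + f i' := by
    intro f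
    have huniv : (Finset.univ : Finset (Fin D.t)) = {i, i'} := by
      symm
      apply Finset.eq_univ_of_card
      rw [Finset.card_pair hii, Fintype.card_fin, ht]
    rw [huniv, Finset.sum_pair hii]
  obtain ⟨m, hm1, hm2⟩ := exists_decomp (isCharacter_tn D i i)
  obtain ⟨m', hm'1, hm'2⟩ := exists_decomp (isCharacter_tn D i i')
  obtain ⟨ha1', ha2, ha3, ⟨j₀, hj₀, hmj₀, haj₀, hC₀⟩, ha6⟩ :=
    minus_alpha D hp2 hpe hD ha1 he0 hlin hC hA3 i hm1 hm2
  obtain ⟨hc1, hc2, hc3, hc4, ⟨j₁, hj₁, hmj₁, haj₁, hC₁⟩, hc5⟩ :=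
    minus_beta D hp2 hpe hD ha1 he0 heven hlin hC hB1 hii hm'1 hm'2
  set XA := ∑ j ∈ setA D, m j with hXA
  set Xb := ∑ j ∈ setB D, m' j with hXb
  have heC : (e : ℂ) = 2 * (Xb : ℂ) := by
    rw [hc5]
    push_cast
    rfl
  -- the values of `β` on `P`
  have hβval : ∀ u : P, u ≠ 1 → tn D i i' u = -(Xb : ℂ) := by
    intro u hu
    rw [tensor_val D hp2 hC hm'2 hu, hc1, Finset.sum_eq_zero hc2]
    simp only [hc4, Nat.cast_zero, zero_mul, Finset.sum_const_zero]
    ring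
  -- the values of `s`
  have hs : ∀ u : P, u ≠ 1 → conj (sg D i u) = sg D i u ∧ sg D i u * sg D i u + sg D i u = (Xb : ℂ) ∧
      sg D i' u = -1 - sg D i u := by
    intro u hu
    have h1 := sum_all_sg D hp2 hu
    rw [hsum2] at h1
    have h2 := hβval u hu
    rw [tn_val D hp2 _ _ hu] at h2
    have h3 : sg D i' u = -1 - sg D i u := by linear_combination h1
    rw [h3, map_sub, map_neg, map_one] at h2
    have h4 : sg D i u * conj (sg D i u) + sg D i u = (Xb : ℂ) := by linear_combination -h2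
    have h5 : conj (sg D i u) = sg D i u := by
      have h6 := congrArg conj h4
      rw [map_add, map_mul, Complex.conj_conj, map_natCast] at h6
      linear_combination h6 - h4
    rw [h5] at h4
    exact ⟨h5, h4, h3⟩
  obtain ⟨u₀, hu₀⟩ := Cfsg.Agent.Lib.BrauerP.Data.exists_ne_one hP
  -- the values of `α` on `P`
  have hαval : ∀ u : P, u ≠ 1 → tn D i i u = (Xb : ℂ) - sg D i u := by
    intro u hu
    obtain ⟨h1, h2, h3⟩ := hs u hu
    rw [tn_val D hp2 _ _ hu, h1]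
    linear_combination h2
  -- the coefficient comparison
  have hcoef : m (D.ν i) = m (D.ν i') + 1 ∧ 1 + XA + m (D.ν i') = Xb := by
    obtain ⟨h1, h2, h3⟩ := hs u₀ hu₀
    have h4 := tensor_val D hp2 hC hm2 hu₀
    rw [hαval u₀ hu₀, ha1', Finset.sum_eq_zero ha3, hsum2, val_ν' D hp2 i hu₀, val_ν' D hp2 i' hu₀, hε, h3] at h4
    push_cast at h4
    set s := sg D i u₀ with hsdef
    -- the integer coefficient
    have h5 : (((m (D.ν i) : ℤ) - m (D.ν i') - 1 : ℤ) : ℂ) * s =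
        (((1 + XA + m (D.ν i') : ℤ) - Xb : ℤ) : ℂ) := by
      push_cast
      rw [hXA]
      push_cast
      linear_combination h4
    by_cases hk : (m (D.ν i) : ℤ) - m (D.ν i') - 1 = 0
    · rw [hk] at h5
      have h6 : ((1 + XA + m (D.ν i') : ℤ) - Xb : ℤ) = 0 := by
        have : (((1 + XA + m (D.ν i') : ℤ) - Xb : ℤ) : ℂ) = 0 := by
          rw [← h5]
          simp
        exact_mod_cast this
      constructor <;> omega
    · exfalso
      have hkC : (((m (D.ν i) : ℤ) - m (D.ν i') - 1 : ℤ) : ℂ) ≠ 0 := by exact_mod_cast hk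
      set r : ℚ := (((1 + XA + m (D.ν i') : ℤ) - Xb : ℤ) : ℚ) / (((m (D.ν i) : ℤ) - m (D.ν i') - 1 : ℤ) : ℚ) with hr
      have hsr : s = (r : ℂ) := by
        rw [hr]
        push_cast
        push_cast at h5 hkC
        field_simp
        linear_combination h5
      apply no_rat_sq (p := p) r
      have h7 : (2 * (r : ℂ) + 1) ^ 2 = (p : ℂ) := by
        rw [← hsr, hpC, heC]
        linear_combination 4 * h2
      exact_mod_cast h7
  obtain ⟨hc6, hc7⟩ := hcoef
  -- the inner products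
  have hαcf := isClassFunction_of_isCharacter (isCharacter_tn D i i)
  have hβcf := isClassFunction_of_isCharacter (isCharacter_tn D i i')
  have hα1 : tn D i i 1 = ((e : ℂ) + 1) ^ 2 := by rw [tn_one, hD]; push_cast; rfl
  have hβ1 : tn D i i' 1 = ((e : ℂ) + 1) ^ 2 := by rw [tn_one, hD]; push_cast; rfl
  have hi1 : classInner (tn D i i) (tn D i i) - classInner (tn D i i') (tn D i i) = (Xb : ℂ) + 1 := by
    have h1 := tn_diff_inner D hp2 hC hN he0 i i' hαcf
    set H : ℂ := 2 * (Xb : ℂ) ^ 2 + (Xb : ℂ) with hH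
    have h2 : ∀ u : P, (tn D i i u - tn D i i' u) * conj (tn D i i u) =
        H - (3 * (Xb : ℂ) + 1) * sg D i u + (if u = 1 then -(H - (3 * (Xb : ℂ) + 1) * (e : ℂ)) else 0) := by
      intro u
      by_cases hu : u = 1
      · subst hu
        rw [if_pos rfl, sg_one]
        have h3 : (((1 : P) : G)) = 1 := rfl
        rw [h3, hα1, hβ1]
        ring
      · rw [if_neg hu, add_zero, hαval u hu, hβval u hu]
        obtain ⟨h3, h4, -⟩ := hs u hu
        rw [map_sub, map_natCast, h3, hH]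
        linear_combination h4
    simp only [h2] at h1
    rw [Finset.sum_add_distrib, Finset.sum_sub_distrib, ← Finset.mul_sum, sum_sg D hp2,
      Finset.sum_ite_eq' Finset.univ (1 : P), if_pos (Finset.mem_univ _), Finset.sum_const, Finset.card_univ,
      ← Nat.card_eq_fintype_card, hP, nsmul_eq_mul] at h1
    apply mul_left_cancel₀ hp0
    apply mul_left_cancel₀ he0'
    rw [hH] at h1
    have h5 : (p : ℂ) = 4 * (Xb : ℂ) + 1 := by rw [hpC, heC]; ring
    rw [h5] at h1 ⊢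
    rw [heC] at h1 ⊢
    linear_combination h1
  have hi2 : classInner (tn D i i) (tn D i i') - classInner (tn D i i') (tn D i i') = -(Xb : ℂ) := by
    have h1 := tn_diff_inner D hp2 hC hN he0 i i' hβcf
    have h2 : ∀ u : P, (tn D i i u - tn D i i' u) * conj (tn D i i' u) =
        -(2 * (Xb : ℂ) ^ 2) + (Xb : ℂ) * sg D i u := by
      intro u
      by_cases hu : u = 1
      · subst hu
        rw [sg_one]
        have h3 : (((1 : P) : G)) = 1 := rfl
        rw [h3, hα1, hβ1, heC]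
        ring
      · rw [hαval u hu, hβval u hu, map_neg, map_natCast]
        ring
    simp only [h2] at h1
    rw [Finset.sum_add_distrib, ← Finset.mul_sum, sum_sg D hp2, Finset.sum_const, Finset.card_univ,
      ← Nat.card_eq_fintype_card, hP, nsmul_eq_mul] at h1
    apply mul_left_cancel₀ hp0
    apply mul_left_cancel₀ he0'
    rw [heC] at h1 ⊢
    linear_combination h1
  have h11 := classInner_decomp hαcf hm1 hm1
  have h21 := classInner_decomp hαcf hm'1 hm1
  have h12 := classInner_decomp hβcf hm1 hm'1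
  have h22 := classInner_decomp hβcf hm'1 hm'1
  -- `δ`
  have hδ : ∑ j, m' j * m j = m' j₀ := by
    rw [sum_split D, hc1, zero_mul, Finset.sum_eq_zero (s := setA D) (fun j hj => by rw [hc2 j hj, zero_mul]),
      Finset.sum_eq_zero (s := setB D) (fun j hj => by rw [ha3 j hj, mul_zero]),
      Finset.sum_eq_zero (s := Finset.univ) (fun i'' _ => by rw [hc4 i'', zero_mul])]
    rw [Finset.sum_eq_single_of_mem j₀ hj₀ (fun j hj hne => by rw [hC₀ j hj hne, mul_zero]), hmj₀]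
    simp
  have hδ' : ∑ j, m j * m' j = m' j₀ := by
    rw [← hδ]
    exact Finset.sum_congr rfl fun j _ => mul_comm _ _
  have hδle : m' j₀ ≤ 1 := by
    by_cases h : j₀ = j₁
    · rw [h, hmj₁]
    · rw [hC₁ j₀ hj₀ h]
      omega
  have hsqα : ∑ j, m j * m j = 1 + (∑ j ∈ setA D, m j * m j) + (m (D.ν i) * m (D.ν i) + m (D.ν i') * m (D.ν i')) + 1 := by
    rw [sum_split D, ha1', Finset.sum_eq_zero (s := setB D) (fun j hj => by rw [ha3 j hj, zero_mul]),
      hsum2N, Finset.sum_eq_single_of_mem j₀ hj₀ (fun j hj hne => by rw [hC₀ j hj hne, zero_mul]), hmj₀]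
    ring
  have hsqβ : ∑ j, m' j * m' j = (∑ j ∈ setB D, m' j * m' j) + 1 := by
    rw [sum_split D, hc1, Finset.sum_eq_zero (s := setA D) (fun j hj => by rw [hc2 j hj, zero_mul]),
      Finset.sum_eq_zero (s := Finset.univ) (fun i'' _ => by rw [hc4 i'', zero_mul]),
      Finset.sum_eq_single_of_mem j₁ hj₁ (fun j hj hne => by rw [hC₁ j hj hne, zero_mul]), hmj₁]
    ring
  rw [h11, h21, hδ, hsqα] at hi1
  rw [h12, h22, hδ', hsqβ] at hi2
  have e1 : 1 + (∑ j ∈ setA D, m j * m j) + (m (D.ν i) * m (D.ν i) + m (D.ν i') * m (D.ν i')) + 1 =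
      Xb + 1 + m' j₀ := by
    have : ((1 + (∑ j ∈ setA D, m j * m j) + (m (D.ν i) * m (D.ν i) + m (D.ν i') * m (D.ν i')) + 1 : ℕ) : ℂ) =
      ((Xb + 1 + m' j₀ : ℕ) : ℂ) := by
      push_cast at hi1 ⊢
      linear_combination hi1
    exact_mod_cast this
  have e2 : m' j₀ + Xb = (∑ j ∈ setB D, m' j * m' j) + 1 := by
    have : ((m' j₀ + Xb : ℕ) : ℂ) = (((∑ j ∈ setB D, m' j * m' j) + 1 : ℕ) : ℂ) := by
      push_cast at hi2 ⊢
      linear_combination hi2
    exact_mod_cast this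
  have hle1 : XA ≤ ∑ j ∈ setA D, m j * m j :=
    Finset.sum_le_sum (fun j _ => Nat.le_mul_self (m j))
  have hle2 : Xb ≤ ∑ j ∈ setB D, m' j * m' j :=
    Finset.sum_le_sum (fun j _ => Nat.le_mul_self (m' j))
  rw [hc6] at e1
  obtain ⟨m₂, hm₂⟩ : ∃ m₂, m₂ = m (D.ν i') := ⟨_, rfl⟩
  rw [← hm₂] at e1 hc7
  have hm₂0 : m₂ = 0 := by
    by_contra hne
    have : 1 ≤ m₂ := by omega
    nlinarith
  subst hm₂0
  have hδ1 : m' j₀ = 1 := by omega
  have hAsq : ∑ j ∈ setA D, m j * m j = ∑ j ∈ setA D, m j := by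
    rw [← hXA]
    omega
  have hBsq : ∑ j ∈ setB D, m' j * m' j = ∑ j ∈ setB D, m' j := by
    rw [← hXb]
    omega
  have hAle := nat_le_one_of_sum_sq _ _ hAsq
  have hBle := nat_le_one_of_sum_sq _ _ hBsq
  have hA1 := nat_sum_le_card _ _ hAle
  have hB1' := nat_sum_le_card _ _ hBle
  have hcard := card_setA_add D
  rw [← hXA] at hA1
  rw [← hXb] at hB1'
  have hAcard : (setA D).card = XA := by omega
  have hBcard : (setB D).card = Xb := by omega
  have hAone := nat_eq_one_of_sum_eq_card (setA D) m hAle (by rw [hAcard])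
  have hBone := nat_eq_one_of_sum_eq_card (setB D) m' hBle (by rw [hBcard])
  refine ⟨?_, ?_, by omega, by omega⟩
  · intro j hj
    have h1 := ha2 j hj (by rw [hAone j hj]; omega)
    refine ⟨h1, ?_⟩
    have h2 := (deg_setA D hp2 hlin hj).2
    rw [h1] at h2
    have : (charDegree (j : G → ℂ) : ℤ) = (p + 1 : ℕ) := by
      rw [h2]
      push_cast
      ring
    exact_mod_cast this
  · intro j hj
    have h1 := hc3 j hj (by rw [hBone j hj]; omega)
    refine ⟨h1, ?_⟩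
    have h2 := deg_setB D hp2 hj
    rw [h1] at h2
    have h3 : charDegree (j : G → ℂ) + 1 = p := by
      have : (charDegree (j : G → ℂ) : ℤ) + 1 = p := by
        rw [h2]
        push_cast
        ring
      exact_mod_cast this
    omega

end Cfsg.Agent.Lib.BrauerP.Tuan
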