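import Cfsg.Agent.Lib.BrauerP.Tuan.Minus

/-!
# The case `ε = -1`: the order of a Sylow `2`-subgroup
-/

set_option autoImplicit false
set_option linter.unusedSectionVars false
set_option linter.unusedVariables false

namespace Cfsg.Agent.Lib.BrauerP.Tuan

open Cfsg Module MulAction
open Cfsg.Agent.Lib.Char.Basic Cfsg.Agent.Lib.Char.Ortho Cfsg.Agent.Lib.Char.Complete
open Cfsg.Agent.Lib.Char.Degree Cfsg.Agent.Lib.Char.Induced
open Cfsg.Agent.Lib.ExcP.Gram Cfsg.Agent.Lib.ExcP.Dual Cfsg.Agent.Lib.ExcP.Core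
open Cfsg.Agent.Lib.ExcP.Inst Cfsg.Agent.Lib.ExcP.BlockHA
open Cfsg.Agent.Lib.BrauerP.Data Cfsg.Agent.Lib.BrauerP.Data.BD Cfsg.Agent.Lib.BrauerP.Frob
open Cfsg.Agent.Lib.BrauerP.Fourier
open Cfsg.Agent.Lib.Char.ClassProd Cfsg.Agent.Lib.Char.ClassSum
open scoped ComplexConjugate Classical

universe u

section Count

variable {G : Type u} [Group G] [Fintype G] [Fintype (IrrCharacter G)]

/-- The count of pairs in a class of an involution, and the `2`-part of the group. -/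
theorem two_pow_dvd_of_count {x u : G} (Q : Subgroup G) {b D₀ p : ℕ} (hQ : Nat.card Q = 2 ^ b)
    (hQx : ∀ y ∈ Q, y * x = x * y) (hG : Nat.card G = p * (2 ^ b * D₀)) (hodd : Odd p) (hD₀ : 0 < D₀)
    {W : ℕ}
    (hS : (W : ℂ) = 2 * (D₀ : ℂ) * ∑ χ : IrrCharacter G,
      (χ : G → ℂ) x * (χ : G → ℂ) x * conj ((χ : G → ℂ) u) / (χ : G → ℂ) 1) :
    2 ^ (b + 1) ∣ W ∧ (0 < W → 0 < classProdCount x x u) := by
  have h1 := count_eq x x u
  set T := classProdCount x x u with hT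
  set c := Nat.card (Subgroup.centralizer ({x} : Set G)) with hc
  have hQc : Q ≤ Subgroup.centralizer ({x} : Set G) := by
    intro y hy
    rw [Subgroup.mem_centralizer_singleton_iff]
    exact hQx y hy
  obtain ⟨c₁, hc₁⟩ : 2 ^ b ∣ c := by
    rw [← hQ]
    exact Subgroup.card_dvd_of_le hQc
  have h2 : T * c * c * (2 * D₀) = p * (2 ^ b * D₀) * W := by
    have h3 : ((T * c * c * (2 * D₀) : ℕ) : ℂ) = ((p * (2 ^ b * D₀) * W : ℕ) : ℂ) := by
      push_cast
      rw [hS]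
      rw [hG] at h1
      push_cast at h1
      linear_combination (2 * (D₀ : ℂ)) * h1
    exact_mod_cast h3
  have h4 : T * (c₁ * c₁) * 2 ^ (b + 1) = p * W := by
    rw [hc₁] at h2
    have h5 : 0 < 2 ^ b * D₀ := by positivity
    apply Nat.eq_of_mul_eq_mul_right h5
    calc T * (c₁ * c₁) * 2 ^ (b + 1) * (2 ^ b * D₀) = T * (2 ^ b * c₁) * (2 ^ b * c₁) * (2 * D₀) := by
          rw [pow_succ]
          ring
      _ = p * (2 ^ b * D₀) * W := h2
      _ = p * W * (2 ^ b * D₀) := by ring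
  constructor
  · have h5 : 2 ^ (b + 1) ∣ p * W := ⟨T * (c₁ * c₁), by rw [← h4]; ring⟩
    have h6 : Nat.Coprime (2 ^ (b + 1)) p := by
      apply Nat.Coprime.pow_left
      exact Nat.coprime_two_left.mpr hodd
    exact h6.dvd_of_dvd_mul_left h5
  · intro hW
    rcases Nat.eq_zero_or_pos T with h5 | h5
    · exfalso
      rw [h5] at h4
      simp only [zero_mul] at h4
      have h6 : 0 < p := hodd.pos
      have : 0 < p * W := by positivity
      omega
    · exact h5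

omit [Fintype (IrrCharacter G)] in
/-- The index of the centralizer of an involution central in a Sylow `2`-subgroup is odd. -/
theorem index_odd {x : G} (Q : Subgroup G) {b D₀ p : ℕ} (hQ : Nat.card Q = 2 ^ b)
    (hQx : ∀ y ∈ Q, y * x = x * y) (hG : Nat.card G = p * (2 ^ b * D₀)) (hodd : Odd p) (hD₀ : Odd D₀) :
    Odd (Subgroup.centralizer ({x} : Set G)).index := by
  have hQc : Q ≤ Subgroup.centralizer ({x} : Set G) := by
    intro y hy
    rw [Subgroup.mem_centralizer_singleton_iff]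
    exact hQx y hy
  obtain ⟨c₁, hc₁⟩ : 2 ^ b ∣ Nat.card (Subgroup.centralizer ({x} : Set G)) := by
    rw [← hQ]
    exact Subgroup.card_dvd_of_le hQc
  have h1 := (Subgroup.centralizer ({x} : Set G)).card_mul_index
  rw [hc₁, hG] at h1
  have h2 : c₁ * (Subgroup.centralizer ({x} : Set G)).index = p * D₀ := by
    have h3 : 0 < 2 ^ b := by positivity
    apply Nat.eq_of_mul_eq_mul_left h3
    rw [← mul_assoc, h1]
    ring
  have h3 : Odd (c₁ * (Subgroup.centralizer ({x} : Set G)).index) := by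
    rw [h2]
    exact hodd.mul hD₀
  exact (Nat.odd_mul.mp h3).2

end Count

variable {G : Type u} [Group G] [Fintype G] [Fintype (IrrCharacter G)] {p e : ℕ} [hp : Fact p.Prime]
  {P : Subgroup G} {hP : Nat.card P = p} [Fintype P] [Fintype (DD P p)]

variable (D : BD P p e hP) (hp2 : ¬ p ^ 2 ∣ Nat.card G)

include hp2

/-- The sum of all exceptional characters on `P`, `ε = -1`. -/
theorem sum_ν_val (hε : D.ε = -1) {u : P} (hu : u ≠ 1) : ∑ i, (D.ν i : G → ℂ) u = 1 := by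
  have h1 := sum_all_sg D hp2 hu
  have h2 : ∀ i, (D.ν i : G → ℂ) u = -sg D i u := by
    intro i
    rw [val_ν' D hp2 i hu, hε]
    simp
  simp only [h2]
  rw [Finset.sum_neg_distrib, h1]
  simp

/-- The sum for an involution, `ε = -1`. -/
theorem struct_minus (hε : D.ε = -1) (hC : Cn P = P) {u : P} (hu : u ≠ 1) {x : G} (hreg : ¬ p ∣ orderOf x)
    (hB0 : ∀ F ∈ setB D, (F : G → ℂ) x = 0) (i : Fin D.t) (hD : 0 < D.D₀) :
    ∑ χ : IrrCharacter G, (χ : G → ℂ) x * (χ : G → ℂ) x * conj ((χ : G → ℂ) u) / (χ : G → ℂ) 1 =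
      1 + (∑ j ∈ setA D, (j : G → ℂ) x * (j : G → ℂ) x / (j : G → ℂ) 1) +
        (D.ν i : G → ℂ) x * (D.ν i : G → ℂ) x / (D.D₀ : ℂ) := by
  rw [struct_split2 D hp2 hC hu x]
  rw [Finset.sum_eq_zero (s := setB D) (fun F hF => by rw [hB0 F hF]; simp), sub_zero]
  congr 1
  have h1 : ∀ k : Fin D.t, (D.ν k : G → ℂ) x * (D.ν k : G → ℂ) x * conj ((D.ν k : G → ℂ) u) / (D.ν k : G → ℂ) 1 =
      (D.ν i : G → ℂ) x * (D.ν i : G → ℂ) x / (D.D₀ : ℂ) * conj ((D.ν k : G → ℂ) u) := by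
    intro k
    rw [ν_reg D hp2 k i hreg, ν_one]
    ring
  simp only [h1]
  rw [← Finset.mul_sum, ← map_sum, sum_ν_val D hp2 hε hu]
  simp

/-- The case `e = 2`. -/
theorem minus_two_bound [IsSimpleGroup G] (hcen : Subgroup.center G = ⊥) (hε : D.ε = -1) (hC : Cn P = P)
    {F : IrrCharacter G} (hF : F ∈ setB D) (hA : setA D = ∅) (hB : setB D = {F}) {m b : ℕ}
    (hFdeg : charDegree (F : G → ℂ) = 2 ^ m) (hD : D.D₀ + 1 = 2 ^ m)
    (hodd : Odd p) (hD₀ : Odd D.D₀)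
    (Q : Subgroup G) (hQ : Nat.card Q = 2 ^ b) (hb : 1 ≤ b) (hG : Nat.card G = p * (2 ^ b * D.D₀)) :
    b ≤ m := by
  obtain ⟨x, hxQ, hxx, hx1, hQx⟩ := exists_central_involution Q hQ hb
  obtain ⟨u, hu⟩ := Cfsg.Agent.Lib.BrauerP.Data.exists_ne_one hP
  have hD0 : 0 < D.D₀ := hD₀.pos
  have hreg : ¬ p ∣ orderOf x := by
    intro h
    have h1 : orderOf x ∣ 2 := orderOf_dvd_of_pow_eq_one (by rw [pow_two, hxx])
    have h2 := (Nat.prime_dvd_prime_iff_eq hp.out Nat.prime_two).mp (h.trans h1)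
    rw [h2] at hodd
    exact absurd hodd (by decide)
  have hF1 : F ≠ oneIrr G := by
    intro h
    have h1 := (Finset.mem_filter.mp hF).2
    rw [h, D.hzone] at h1
    norm_num at h1
  have hFx : (F : G → ℂ) x = 0 := by
    apply val_eq_zero_of_coprime hcen hF1 hx1
    rw [hFdeg]
    apply Nat.Coprime.pow_left
    exact Nat.coprime_two_left.mpr (index_odd Q hQ hQx hG hodd hD₀)
  have hB0 : ∀ F' ∈ setB D, (F' : G → ℂ) x = 0 := by
    intro F' hF'
    rw [hB, Finset.mem_singleton] at hF'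
    rw [hF', hFx]
  obtain ⟨i⟩ : Nonempty (Fin D.t) := ⟨⟨0, D.t_pos⟩⟩
  -- the value of `ν`
  have hνx : (D.ν i : G → ℂ) x = -1 := by
    have h1 := D.reg_rel i hreg
    rw [sum_z D (fun j => (j : G → ℂ) x), hA, hB, hε] at h1
    simp only [Finset.sum_empty, Finset.sum_singleton, hFx] at h1
    have h2 : ((oneIrr G : IrrCharacter G) : G → ℂ) x = 1 := rfl
    rw [h2] at h1
    push_cast at h1
    linear_combination -h1
  have hS := struct_minus D hp2 hε hC hu hreg hB0 i hD0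
  rw [hA, Finset.sum_empty, add_zero, hνx] at hS
  have hD0C : (D.D₀ : ℂ) ≠ 0 := by exact_mod_cast hD0.ne'
  have hW : ((2 * D.D₀ + 2 : ℕ) : ℂ) = 2 * (D.D₀ : ℂ) * ∑ χ : IrrCharacter G,
      (χ : G → ℂ) x * (χ : G → ℂ) x * conj ((χ : G → ℂ) u) / (χ : G → ℂ) 1 := by
    rw [hS]
    push_cast
    field_simp
  obtain ⟨h1, -⟩ := two_pow_dvd_of_count Q hQ hQx hG hodd hD0 hW
  have h2 : 2 * D.D₀ + 2 = 2 ^ (m + 1) := by
    rw [pow_succ, ← hD]
    ring
  rw [h2] at h1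
  have h3 := (Nat.pow_dvd_pow_iff_le_right (by norm_num : 1 < 2)).mp h1
  omega

/-- The case `t = 2`, `e` even. -/
theorem minus_t2_bound [IsSimpleGroup G] (hcen : Subgroup.center G = ⊥) (hε : D.ε = -1) (hC : Cn P = P)
    (hpe : p = 2 * e + 1) (hD : D.D₀ = e + 1) (ha1 : ∀ i, aP (hP := hP) hp2 (D.ν i) = 1)
    (hAdeg : ∀ j ∈ setA D, aP (hP := hP) hp2 j = 2 ∧ charDegree (j : G → ℂ) = p + 1)
    (hBdeg : ∀ j ∈ setB D, charDegree (j : G → ℂ) = p - 1)
    (hAcard : 2 * (setA D).card + 2 = e) {m b : ℕ} (hm : 2 * e = 2 ^ m)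
    (hodd : Odd p) (hD₀ : Odd D.D₀)
    (Q : Subgroup G) (hQ : Nat.card Q = 2 ^ b) (hb : 1 ≤ b) (hG : Nat.card G = p * (2 ^ b * D.D₀)) :
    b ≤ m := by
  obtain ⟨x, hxQ, hxx, hx1, hQx⟩ := exists_central_involution Q hQ hb
  obtain ⟨u, hu⟩ := Cfsg.Agent.Lib.BrauerP.Data.exists_ne_one hP
  have hD0 : 0 < D.D₀ := hD₀.pos
  have hpp := hp.out.two_le
  have hreg : ¬ p ∣ orderOf x := by
    intro h
    have h1 : orderOf x ∣ 2 := orderOf_dvd_of_pow_eq_one (by rw [pow_two, hxx])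
    have h2 := (Nat.prime_dvd_prime_iff_eq hp.out Nat.prime_two).mp (h.trans h1)
    rw [h2] at hodd
    exact absurd hodd (by decide)
  have hB0 : ∀ F ∈ setB D, (F : G → ℂ) x = 0 := by
    intro F hF
    have hF1 : F ≠ oneIrr G := by
      intro h
      have h1 := (Finset.mem_filter.mp hF).2
      rw [h, D.hzone] at h1
      norm_num at h1
    apply val_eq_zero_of_coprime hcen hF1 hx1
    rw [hBdeg F hF]
    have h2 : p - 1 = 2 ^ m := by omega
    rw [h2]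
    apply Nat.Coprime.pow_left
    exact Nat.coprime_two_left.mpr (index_odd Q hQ hQx hG hodd hD₀)
  obtain ⟨i⟩ : Nonempty (Fin D.t) := ⟨⟨0, D.t_pos⟩⟩
  have hS := struct_minus D hp2 hε hC hu hreg hB0 i hD0
  -- integer values
  have hint : ∀ j : IrrCharacter G, ∃ c : ℤ, (j : G → ℂ) x = c := fun j =>
    exists_int_of_mul_self (isCharacter_of_isIrrCharacter j.2) hxx
  choose c hc using hint
  have hD0C : (D.D₀ : ℂ) ≠ 0 := by exact_mod_cast hD0.ne'
  set W : ℕ := 2 * D.D₀ + (∑ j ∈ setA D, (c j).natAbs ^ 2) + 2 * (c (D.ν i)).natAbs ^ 2 with hWdef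
  have hnatAbs : ∀ z : ℤ, (((z.natAbs ^ 2 : ℕ)) : ℂ) = (z : ℂ) * z := by
    intro z
    have h1 : ((z.natAbs ^ 2 : ℕ) : ℤ) = z * z := by
      rw [Nat.cast_pow, Int.natAbs_sq]
      ring
    calc (((z.natAbs ^ 2 : ℕ)) : ℂ) = (((z.natAbs ^ 2 : ℕ) : ℤ) : ℂ) := (Int.cast_natCast _).symm
      _ = ((z * z : ℤ) : ℂ) := by rw [h1]
      _ = (z : ℂ) * z := Int.cast_mul _ _
  have hW : (W : ℂ) = 2 * (D.D₀ : ℂ) * ∑ χ : IrrCharacter G,
      (χ : G → ℂ) x * (χ : G → ℂ) x * conj ((χ : G → ℂ) u) / (χ : G → ℂ) 1 := by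
    rw [hS, hWdef]
    have hA : ∑ j ∈ setA D, (j : G → ℂ) x * (j : G → ℂ) x / (j : G → ℂ) 1 =
        ((∑ j ∈ setA D, (c j).natAbs ^ 2 : ℕ) : ℂ) / (2 * (D.D₀ : ℂ)) := by
      rw [Nat.cast_sum, Finset.sum_div]
      refine Finset.sum_congr rfl fun j hj => ?_
      have hpC : ((p + 1 : ℕ) : ℂ) = 2 * (D.D₀ : ℂ) := by
        rw [hD]
        have : p + 1 = 2 * (e + 1) := by omega
        rw [this]
        push_cast
        ring
      rw [hc, hnatAbs, ← charDegree_natCast (isCharacter_of_isIrrCharacter j.2), (hAdeg j hj).2, hpC]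
    rw [hA, hc (D.ν i)]
    have h5 := hnatAbs (c (D.ν i))
    push_cast at h5 ⊢
    rw [h5]
    field_simp
  have hWpos : 0 < W := by
    rw [hWdef]
    omega
  obtain ⟨h1, h2⟩ := two_pow_dvd_of_count Q hQ hQx hG hodd hD0 hW
  -- two involutions with product `u`
  have hT := h2 hWpos
  have hne : Nonempty {q : G × G // IsConj x q.1 ∧ IsConj x q.2 ∧ q.1 * q.2 = (u : G)} := by
    by_contra hcon
    rw [not_nonempty_iff] at hcon
    rw [classProdCount, Nat.card_of_isEmpty] at hT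
    omega
  obtain ⟨⟨⟨τ, τ'⟩, hτ1, hτ2, hτ3⟩⟩ := hne
  simp only at hτ1 hτ2 hτ3
  have hττ : τ * τ = 1 := by
    obtain ⟨g, hg⟩ := isConj_iff.mp hτ1
    calc τ * τ = g * (x * x) * g⁻¹ := by rw [← hg]; group
      _ = 1 := by rw [hxx]; group
  have hτ'τ' : τ' * τ' = 1 := by
    obtain ⟨g, hg⟩ := isConj_iff.mp hτ2
    calc τ' * τ' = g * (x * x) * g⁻¹ := by rw [← hg]; group
      _ = 1 := by rw [hxx]; group
  have hτi : τ⁻¹ = τ := inv_eq_of_mul_eq_one_left hττ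
  have hτ'i : τ'⁻¹ = τ' := inv_eq_of_mul_eq_one_left hτ'τ'
  have hinvu : τ * (u : G) * τ⁻¹ = (u : G)⁻¹ := by
    rw [← hτ3, hτi, mul_inv_rev, hτi, hτ'i]
    calc τ * (τ * τ') * τ = (τ * τ) * τ' * τ := by group
      _ = τ' * τ := by rw [hττ, one_mul]
  have hu1 : (u : G) ≠ 1 := fun h => hu (Subtype.ext h)
  have hinv : ∀ v ∈ P, τ * v * τ⁻¹ = v⁻¹ := by
    intro v hv
    rw [eq_zpowers_of_mem hP u.2 hu1] at hv
    obtain ⟨k, rfl⟩ := Subgroup.mem_zpowers_iff.mp hv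
    rw [← conj_zpow, hinvu, inv_zpow]
  -- the bounds
  have hodd' : p ≠ 2 := by
    rintro h2'
    rw [h2'] at hodd
    exact absurd hodd (by decide)
  have hbound : ∀ j : IrrCharacter G, (c j).natAbs ≤ aP (hP := hP) hp2 j := by
    intro j
    obtain ⟨c', hc', hc''⟩ := bound_of_inverting hP hodd' hττ hinv (isCharacter_of_isIrrCharacter j.2)
      (sum_P_eq (hP := hP) hp2 j)
    have h3 : (j : G → ℂ) τ = (j : G → ℂ) x :=
      (isClassFunction_iff_isConj.mp (isClassFunction_of_isIrrCharacter j.2) _ _ hτ1).symm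
    rw [h3, hc] at hc'
    have h4 : c j = c' := by exact_mod_cast hc'
    rw [h4]
    have h5 : (c'.natAbs : ℤ) ≤ aP (hP := hP) hp2 j := by
      rw [Int.natCast_natAbs]
      exact hc''
    exact_mod_cast h5
  have hWle : W ≤ 4 * e := by
    rw [hWdef]
    have h3 : ∑ j ∈ setA D, (c j).natAbs ^ 2 ≤ ∑ _j ∈ setA D, 4 := by
      apply Finset.sum_le_sum
      intro j hj
      have h4 := hbound j
      rw [(hAdeg j hj).1] at h4
      exact Nat.pow_le_pow_left h4 2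
    rw [Finset.sum_const, smul_eq_mul] at h3
    have h5 := hbound (D.ν i)
    rw [ha1 i] at h5
    have h6 : (c (D.ν i)).natAbs ^ 2 ≤ 1 := Nat.pow_le_one_iff (by norm_num) |>.mpr h5
    rw [hD]
    omega
  have h3 : 2 ^ (b + 1) ≤ 2 ^ (m + 1) := by
    calc 2 ^ (b + 1) ≤ W := Nat.le_of_dvd hWpos h1
      _ ≤ 4 * e := hWle
      _ = 2 ^ (m + 1) := by rw [pow_succ, ← hm]; ring
  have h4 := (Nat.pow_le_pow_iff_right (by norm_num : 1 < 2)).mp h3
  omega

end Cfsg.Agent.Lib.BrauerP.Tuan
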