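import Cfsg.Agent.Lib.BrauerP.Tuan.Tensor

/-!
# The case `ε = 1`: the tensor square of an exceptional character
-/

set_option autoImplicit false
set_option linter.unusedSectionVars false
set_option linter.unusedVariables false

namespace Cfsg.Agent.Lib.BrauerP.Tuan

open Cfsg Module MulAction
open Cfsg.Agent.Lib.Char.Basic Cfsg.Agent.Lib.Char.Ortho Cfsg.Agent.Lib.Char.Complete
open Cfsg.Agent.Lib.Char.Degree Cfsg.Agent.Lib.Char.Induced
open Cfsg.Agent.Lib.ExcP.Gram Cfsg.Agent.Lib.ExcP.Dual Cfsg.Agent.Lib.ExcP.Core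
open Cfsg.Agent.Lib.ExcP.Inst Cfsg.Agent.Lib.ExcP.BlockHA
open Cfsg.Agent.Lib.BrauerP.Data Cfsg.Agent.Lib.BrauerP.Data.BD Cfsg.Agent.Lib.BrauerP.Frob
open Cfsg.Agent.Lib.BrauerP.Fourier
open scoped ComplexConjugate Classical

universe u

/-- The arithmetic of the tensor square, `ε = 1`. -/
theorem arith_plus {t e p XA SA XB SB M SC : ℕ} (hte : t * e = p - 1) (hp : 1 ≤ p) (ht : 2 ≤ t) (he : 2 ≤ e)
    (hSA : 2 * XA ≤ SA)
    (hdeg : (e : ℤ) ^ 2 = 1 + ((XA : ℤ) + p * SA - p * XA) + (p * SB + p * XB - XB) + M * e + p * SC)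
    (hmult : e = 1 + SA + SB + SC) :
    t = 2 ∧ M = 0 ∧ XB = 0 ∧ SB = 0 ∧ SC = 0 ∧ SA = 2 * XA ∧ 2 * XA + 1 = e := by
  obtain ⟨r, rfl⟩ : ∃ r, SA = 2 * XA + r := ⟨SA - 2 * XA, by omega⟩
  obtain ⟨t', rfl⟩ : ∃ t', t = t' + 2 := ⟨t - 2, by omega⟩
  have hpZ : (p : ℤ) = ((t' : ℤ) + 2) * e + 1 := by
    have h1 : (t' + 2) * e + 1 = p := by omega
    exact_mod_cast h1.symm
  have heZ : (e : ℤ) = 1 + (2 * XA + r) + SB + SC := by exact_mod_cast hmult
  have he0 : (e : ℤ) ≠ 0 := by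
    have : 0 < e := by omega
    exact_mod_cast this.ne'
  -- the key identity
  have hkey : (e : ℤ) * ((t' : ℤ) * XA + ((t' : ℤ) + 1) * (r + SB + SC) + M + ((t' : ℤ) + 2) * XB) = 0 := by
    have h2 : (SC : ℤ) = e - 1 - (2 * XA + r) - SB := by linarith
    rw [h2] at hdeg ⊢
    rw [hpZ] at hdeg
    push_cast at hdeg
    linear_combination -hdeg
  have h3 := (mul_eq_zero.mp hkey).resolve_left he0
  have h4 : t' * XA + (t' + 1) * (r + SB + SC) + M + (t' + 2) * XB = 0 := by
    have : ((t' * XA + (t' + 1) * (r + SB + SC) + M + (t' + 2) * XB : ℕ) : ℤ) = 0 := by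
      push_cast
      linarith
    exact_mod_cast this
  have h5 : M = 0 := by omega
  have h6 : (t' + 2) * XB = 0 := by omega
  have h7 : XB = 0 := (Nat.mul_eq_zero.mp h6).resolve_left (by omega)
  have h8 : (t' + 1) * (r + SB + SC) = 0 := by omega
  have h9 : r + SB + SC = 0 := (Nat.mul_eq_zero.mp h8).resolve_left (by omega)
  have hr : r = 0 := by omega
  have hSB : SB = 0 := by omega
  have hSC : SC = 0 := by omega
  have h10 : 1 ≤ XA := by omega
  have h11 : t' * XA = 0 := by omega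
  have h12 : t' = 0 := (Nat.mul_eq_zero.mp h11).resolve_right (by omega)
  refine ⟨by omega, h5, h7, hSB, hSC, by omega, by omega⟩

variable {G : Type u} [Group G] [Fintype G] [Fintype (IrrCharacter G)] {p e : ℕ} [hp : Fact p.Prime]
  {P : Subgroup G} {hP : Nat.card P = p} [Fintype P] [Fintype (DD P p)]

variable (D : BD P p e hP) (hp2 : ¬ p ^ 2 ∣ Nat.card G)

include hp2

/-- The constituents of `ν ν̄`, in the case `ε = 1`. -/
theorem plus_alpha (hD : D.D₀ = e) (ha0 : ∀ i, aP (hP := hP) hp2 (D.ν i) = 0)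
    (he2 : 2 ≤ e) (ht2 : 2 ≤ D.t)
    (hlin : ∀ j : IrrCharacter G, charDegree (j : G → ℂ) = 1 → j = oneIrr G) (hC : Cn P = P)
    (i : Fin D.t) {m : IrrCharacter G → ℕ} (hm1 : ∀ j : IrrCharacter G, classInner (tn D i i) (j : G → ℂ) = m j)
    (hm2 : ∀ g, tn D i i g = ∑ j : IrrCharacter G, (m j : ℂ) * (j : G → ℂ) g) :
    D.t = 2 ∧ m (oneIrr G) = 1 ∧ (∀ j ∈ setA D, 0 < m j → aP (hP := hP) hp2 j = 2) ∧
      (∀ j ∈ setB D, m j = 0) ∧ (∀ i', m (D.ν i') = 0) ∧ (∀ j ∈ setC D, m j = 0) ∧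
      2 * (∑ j ∈ setA D, m j) + 1 = e := by
  have hp1 := hp.out.two_le
  have hone : m (oneIrr G) = 1 := by
    have h1 := hm1 (oneIrr G)
    rw [tn_inner_one, if_pos rfl] at h1
    exact_mod_cast h1.symm
  have hp0 : (p : ℂ) ≠ 0 := by exact_mod_cast hp.out.ne_zero
  have hdeg : ∑ j, m j * charDegree (j : G → ℂ) = e ^ 2 := by
    have h1 := tensor_deg hm2
    rw [tn_one, hD] at h1
    have h2 : (((e ^ 2 : ℕ)) : ℂ) = ((∑ j, m j * charDegree (j : G → ℂ) : ℕ) : ℂ) := by
      rw [← h1]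
      push_cast
      rfl
    exact_mod_cast h2.symm
  have hmult : ∑ j, m j * aP (hP := hP) hp2 j = e := by
    have h1 := tensor_sumP (hP := hP) hp2 hm2
    rw [sum_tn D hp2, if_pos rfl, hD] at h1
    have h2 : ((∑ j, m j * aP (hP := hP) hp2 j : ℕ) : ℂ) = (e : ℂ) := by
      apply mul_left_cancel₀ hp0
      rw [← h1]
      ring
    exact_mod_cast h2
  have h1 := split_deg D hp2 hlin hC m
  rw [hdeg, hD, hone] at h1
  have h2 := split_a D hp2 m ha0
  rw [hmult, hone, mul_zero, add_zero] at h2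
  have hSA : 2 * (∑ j ∈ setA D, m j) ≤ ∑ j ∈ setA D, m j * aP (hP := hP) hp2 j := by
    rw [Finset.mul_sum]
    apply Finset.sum_le_sum
    intro j hj
    have := (deg_setA D hp2 hlin hj).1
    rw [mul_comm]
    exact Nat.mul_le_mul_left _ this
  have hmult' : e = 1 + (∑ j ∈ setA D, m j * aP (hP := hP) hp2 j) + (∑ j ∈ setB D, m j * aP (hP := hP) hp2 j) +
      ∑ j ∈ setC D, m j * aP (hP := hP) hp2 j := h2
  have hdeg' : (e : ℤ) ^ 2 = 1 + (((∑ j ∈ setA D, m j : ℕ) : ℤ) +
      p * ((∑ j ∈ setA D, m j * aP (hP := hP) hp2 j : ℕ) : ℤ) - p * ((∑ j ∈ setA D, m j : ℕ) : ℤ)) +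
      (p * ((∑ j ∈ setB D, m j * aP (hP := hP) hp2 j : ℕ) : ℤ) + p * ((∑ j ∈ setB D, m j : ℕ) : ℤ) -
        ((∑ j ∈ setB D, m j : ℕ) : ℤ)) + ((∑ i', m (D.ν i') : ℕ) : ℤ) * e +
      p * ((∑ j ∈ setC D, m j * aP (hP := hP) hp2 j : ℕ) : ℤ) := by
    push_cast at h1 ⊢
    linarith
  obtain ⟨h3, h4, h5, h6, h7, h8, h9⟩ := arith_plus D.hte (by omega) ht2 he2 hSA hdeg' hmult'
  refine ⟨h3, hone, ?_, ?_, ?_, ?_, h9⟩
  · intro j hj hpos
    have h10 : ∑ j ∈ setA D, m j * aP (hP := hP) hp2 j = ∑ j ∈ setA D, m j * 2 := by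
      rw [h8, Finset.mul_sum]
      refine Finset.sum_congr rfl fun j _ => ?_
      ring
    have h11 := (Finset.sum_eq_sum_iff_of_le (fun j hj => by
      have := (deg_setA D hp2 hlin hj).1
      exact Nat.mul_le_mul_left (m j) this)).mp h10.symm j hj
    exact (Nat.eq_of_mul_eq_mul_left hpos h11).symm
  · exact fun j hj => Finset.sum_eq_zero_iff.mp h5 j hj
  · exact fun i' => Finset.sum_eq_zero_iff.mp h4 i' (Finset.mem_univ _)
  · intro j hj
    have h10 := Finset.sum_eq_zero_iff.mp h7 j hj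
    have h11 := (deg_setC D hp2 hC hj).1
    exact (Nat.mul_eq_zero.mp h10).resolve_right (by omega)

/-- The constituents of `ν ν̄'`, in the case `ε = 1`. -/
theorem plus_beta (hD : D.D₀ = e) (ha0 : ∀ i, aP (hP := hP) hp2 (D.ν i) = 0)
    (he2 : 2 ≤ e) (ht : D.t = 2)
    (hlin : ∀ j : IrrCharacter G, charDegree (j : G → ℂ) = 1 → j = oneIrr G) (hC : Cn P = P)
    {i i' : Fin D.t} (hii : i ≠ i') {m : IrrCharacter G → ℕ}
    (hm1 : ∀ j : IrrCharacter G, classInner (tn D i i') (j : G → ℂ) = m j)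
    (hm2 : ∀ g, tn D i i' g = ∑ j : IrrCharacter G, (m j : ℂ) * (j : G → ℂ) g) :
    m (oneIrr G) = 0 ∧ (∀ j ∈ setA D, m j = 0) ∧ (∀ j ∈ setB D, 0 < m j → aP (hP := hP) hp2 j = 0) ∧
      (∀ j ∈ setC D, m j = 0) ∧ e = 2 * (∑ j ∈ setB D, m j) + ∑ i'', m (D.ν i'') := by
  have hp1 := hp.out.two_le
  have he0 : 0 < e := by omega
  have hone : m (oneIrr G) = 0 := by
    have h1 := hm1 (oneIrr G)
    rw [tn_inner_one, if_neg hii] at h1
    exact_mod_cast h1.symm
  have hp0 : (p : ℂ) ≠ 0 := by exact_mod_cast hp.out.ne_zero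
  have hdeg : ∑ j, m j * charDegree (j : G → ℂ) = e ^ 2 := by
    have h1 := tensor_deg hm2
    rw [tn_one, hD] at h1
    have h2 : (((e ^ 2 : ℕ)) : ℂ) = ((∑ j, m j * charDegree (j : G → ℂ) : ℕ) : ℂ) := by
      rw [← h1]
      push_cast
      rfl
    exact_mod_cast h2.symm
  have hmult : ∑ j, m j * aP (hP := hP) hp2 j = 0 := by
    have h1 := tensor_sumP (hP := hP) hp2 hm2
    rw [sum_tn D hp2, if_neg hii, hD] at h1
    have h2 : ((∑ j, m j * aP (hP := hP) hp2 j : ℕ) : ℂ) = 0 := by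
      apply mul_left_cancel₀ hp0
      rw [← h1]
      ring
    exact_mod_cast h2
  have hall : ∀ j, m j * aP (hP := hP) hp2 j = 0 :=
    fun j => Finset.sum_eq_zero_iff.mp hmult j (Finset.mem_univ _)
  have hA : ∀ j ∈ setA D, m j = 0 := by
    intro j hj
    have := (deg_setA D hp2 hlin hj).1
    exact (Nat.mul_eq_zero.mp (hall j)).resolve_right (by omega)
  have hB : ∀ j ∈ setB D, 0 < m j → aP (hP := hP) hp2 j = 0 := by
    intro j _ hj
    exact (Nat.mul_eq_zero.mp (hall j)).resolve_left (by omega)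
  have hCC : ∀ j ∈ setC D, m j = 0 := by
    intro j hj
    have := (deg_setC D hp2 hC hj).1
    exact (Nat.mul_eq_zero.mp (hall j)).resolve_right (by omega)
  refine ⟨hone, hA, hB, hCC, ?_⟩
  have h1 := split_deg D hp2 hlin hC m
  rw [hdeg, hD, hone] at h1
  have hA0 : ∑ j ∈ setA D, m j = 0 := Finset.sum_eq_zero hA
  have hA1 : ∑ j ∈ setA D, m j * aP (hP := hP) hp2 j = 0 := Finset.sum_eq_zero (fun j _ => hall j)
  have hB1 : ∑ j ∈ setB D, m j * aP (hP := hP) hp2 j = 0 := Finset.sum_eq_zero (fun j _ => hall j)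
  have hC1 : ∑ j ∈ setC D, m j * aP (hP := hP) hp2 j = 0 := Finset.sum_eq_zero (fun j _ => hall j)
  rw [hA0, hA1, hB1, hC1] at h1
  have hpZ : (p : ℤ) = 2 * e + 1 := by
    have h2 := D.hte
    rw [ht] at h2
    have h3 : 2 * e + 1 = p := by omega
    exact_mod_cast h3.symm
  have he0Z : (e : ℤ) ≠ 0 := by exact_mod_cast he0.ne'
  have h3 : (e : ℤ) * ((e : ℤ) - 2 * ((∑ j ∈ setB D, m j : ℕ) : ℤ) - ((∑ i'', m (D.ν i'') : ℕ) : ℤ)) = 0 := by
    rw [hpZ] at h1
    push_cast at h1 ⊢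
    linear_combination h1
  have h4 := (mul_eq_zero.mp h3).resolve_left he0Z
  have h5 : (e : ℤ) = ((2 * (∑ j ∈ setB D, m j) + ∑ i'', m (D.ν i'') : ℕ) : ℤ) := by
    push_cast at h4 ⊢
    linarith
  exact_mod_cast h5

/-- Exceptional characters agree on regular elements. -/
theorem ν_reg (i i' : Fin D.t) {g : G} (hg : ¬ p ∣ orderOf g) :
    (D.ν i : G → ℂ) g = (D.ν i' : G → ℂ) g := by
  have h1 := D.reg_rel i hg
  have h2 := D.reg_rel i' hg
  have hε : (D.ε : ℂ) ≠ 0 := by exact_mod_cast D.ε_ne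
  exact mul_left_cancel₀ hε (by linear_combination h1 - h2)

/-- The difference of two tensor products vanishes on regular elements; its inner products. -/
theorem tn_diff_inner (hC : Cn P = P) (hN : Nat.card (Nn P) = p * e) (he0 : 0 < e) (i i' : Fin D.t)
    {θ : G → ℂ} (hθ : IsClassFunction G θ) :
    (p : ℂ) * (e : ℂ) * (classInner (tn D i i) θ - classInner (tn D i i') θ) =
      ∑ u : P, (tn D i i u - tn D i i' u) * conj (θ u) := by
  have h1 := classInner_of_vanish (f := tn D i i - tn D i i') (θ := θ) hP hp2 hC hN he0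
    (fun g h => by
      have h2 := isClassFunction_of_isCharacter (isCharacter_tn D i i) g h
      have h3 := isClassFunction_of_isCharacter (isCharacter_tn D i i') g h
      simp only [Pi.sub_apply]
      rw [h2, h3]) hθ (fun g hg => by
      simp only [Pi.sub_apply, tn]
      rw [ν_reg D hp2 i' i hg]
      ring)
  rw [classInner_sub_left] at h1
  exact h1

/-- The structure of the principal block, for a pair of exceptional characters, `ε = 1`. -/
theorem plus_pair (hD : D.D₀ = e) (ha0 : ∀ i, aP (hP := hP) hp2 (D.ν i) = 0)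
    (he2 : 2 ≤ e) (ht : D.t = 2)
    (hlin : ∀ j : IrrCharacter G, charDegree (j : G → ℂ) = 1 → j = oneIrr G) (hC : Cn P = P)
    (hN : Nat.card (Nn P) = p * e) {i i' : Fin D.t} (hii : i ≠ i') :
    (∀ j ∈ setA D, aP (hP := hP) hp2 j = 2 ∧ charDegree (j : G → ℂ) = p + 1) ∧
    (∀ j ∈ setB D, aP (hP := hP) hp2 j = 0 ∧ charDegree (j : G → ℂ) = p - 1) ∧
    2 * (setA D).card + 1 = e ∧ 2 * (setB D).card + 1 = e ∧
    (∀ g, (D.ν i : G → ℂ) g * conj ((D.ν i : G → ℂ) g) = 1 + ∑ j ∈ setA D, (j : G → ℂ) g) ∧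
    (∀ g, ¬ p ∣ orderOf g → (D.ν i : G → ℂ) g * conj ((D.ν i : G → ℂ) g) =
      (D.ν i : G → ℂ) g + ∑ j ∈ setB D, (j : G → ℂ) g) ∧
    (∀ u : P, u ≠ 1 → sg D i u * conj (sg D i u) = ((setA D).card : ℂ) + 1) := by
  have hp1 := hp.out.two_le
  have he0 : 0 < e := by omega
  have hp0 : (p : ℂ) ≠ 0 := by exact_mod_cast hp.out.ne_zero
  have he0' : (e : ℂ) ≠ 0 := by exact_mod_cast he0.ne'
  have hpe : p = 2 * e + 1 := by
    have h2 := D.hte
    rw [ht] at h2
    omega
  have hpC : (p : ℂ) = 2 * e + 1 := by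
    rw [hpe]
    push_cast
    ring
  obtain ⟨m, hm1, hm2⟩ := exists_decomp (isCharacter_tn D i i)
  obtain ⟨m₂, hm₂1, hm₂2⟩ := exists_decomp (isCharacter_tn D i' i')
  obtain ⟨m', hm'1, hm'2⟩ := exists_decomp (isCharacter_tn D i i')
  obtain ⟨-, ha1, ha2, ha3, ha4, ha5, ha6⟩ := plus_alpha D hp2 hD ha0 he2 (by omega) hlin hC i hm1 hm2
  obtain ⟨-, hb1, hb2, hb3, hb4, hb5, hb6⟩ := plus_alpha D hp2 hD ha0 he2 (by omega) hlin hC i' hm₂1 hm₂2
  obtain ⟨hc1, hc2, hc3, hc4, hc5⟩ := plus_beta D hp2 hD ha0 he2 ht hlin hC hii hm'1 hm'2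
  set XA := ∑ j ∈ setA D, m j with hXA
  set XB := ∑ j ∈ setB D, m' j with hXB
  set Y := ∑ i'', m' (D.ν i'') with hY
  -- the values on `P`
  have hαval : ∀ u : P, u ≠ 1 → tn D i i u = (XA : ℂ) + 1 := by
    intro u hu
    rw [tensor_val D hp2 hC hm2 hu, ha1, Finset.sum_eq_zero ha3]
    simp only [ha4, Nat.cast_zero, zero_mul, Finset.sum_const_zero]
    rw [Nat.cast_one]
    ring
  have hα₂val : ∀ u : P, u ≠ 1 → tn D i' i' u = (XA : ℂ) + 1 := by
    intro u hu
    rw [tensor_val D hp2 hC hm₂2 hu, hb1, Finset.sum_eq_zero hb3]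
    simp only [hb4, Nat.cast_zero, zero_mul, Finset.sum_const_zero]
    have h1 : ∑ j ∈ setA D, m₂ j = XA := by omega
    rw [h1, Nat.cast_one]
    ring
  set W : ℂ := (XA : ℂ) + 1 with hW
  have hWe : 2 * W = (e : ℂ) + 1 := by
    rw [hW, ← ha6]
    push_cast
    ring
  have hsα := sum_tn D hp2 i i
  rw [if_pos rfl, hD] at hsα
  have hsβ := sum_tn D hp2 i i'
  rw [if_neg hii, hD] at hsβ
  have hα1 : tn D i i 1 = (e : ℂ) ^ 2 := by rw [tn_one, hD]
  have hβ1 : tn D i i' 1 = (e : ℂ) ^ 2 := by rw [tn_one, hD]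
  have hαcf := isClassFunction_of_isCharacter (isCharacter_tn D i i)
  have hβcf := isClassFunction_of_isCharacter (isCharacter_tn D i i')
  -- the first inner product
  have hi1 : classInner (tn D i i) (tn D i i) - classInner (tn D i i') (tn D i i) = W := by
    have h1 := tn_diff_inner D hp2 hC hN he0 i i' hαcf
    have h2 : ∀ u : P, (tn D i i u - tn D i i' u) * conj (tn D i i u) =
        (tn D i i u - tn D i i' u) * W := by
      intro u
      by_cases hu : u = 1
      · subst hu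
        have h3 : (((1 : P) : G)) = 1 := rfl
        rw [h3, hα1, hβ1]
        ring
      · rw [hαval u hu, hW]
        simp
    simp only [h2] at h1
    rw [← Finset.sum_mul, Finset.sum_sub_distrib, hsα, hsβ] at h1
    apply mul_left_cancel₀ hp0
    apply mul_left_cancel₀ he0'
    linear_combination h1
  -- the second inner product
  have hi2 : classInner (tn D i i) (tn D i i') - classInner (tn D i i') (tn D i i') = -W := by
    have h1 := tn_diff_inner D hp2 hC hN he0 i i' hβcf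
    have h2 : ∀ u : P, (tn D i i u - tn D i i' u) * conj (tn D i i' u) =
        W * conj (tn D i i' u) - W ^ 2 + (if u = 1 then W ^ 2 - W * (e : ℂ) ^ 2 else 0) := by
      intro u
      by_cases hu : u = 1
      · subst hu
        rw [if_pos rfl]
        have h3 : (((1 : P) : G)) = 1 := rfl
        rw [h3, hα1, hβ1, map_pow, map_natCast]
        ring
      · rw [if_neg hu, add_zero, hαval u hu]
        have h3 : tn D i i' u * conj (tn D i i' u) = W ^ 2 := by
          have h4 := hαval u hu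
          have h5 := hα₂val u hu
          rw [tn_val D hp2 _ _ hu] at h4 h5 ⊢
          rw [map_mul, Complex.conj_conj]
          calc sg D i u * conj (sg D i' u) * (conj (sg D i u) * sg D i' u) =
              (sg D i u * conj (sg D i u)) * (sg D i' u * conj (sg D i' u)) := by ring
            _ = W ^ 2 := by rw [h4, h5]; ring
        linear_combination -h3
    simp only [h2] at h1
    rw [Finset.sum_add_distrib, Finset.sum_sub_distrib, ← Finset.mul_sum, ← map_sum, hsβ,
      Finset.sum_ite_eq' Finset.univ (1 : P), if_pos (Finset.mem_univ _), Finset.sum_const, Finset.card_univ,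
      ← Nat.card_eq_fintype_card, hP, nsmul_eq_mul] at h1
    simp only [sub_self, add_zero, map_zero, mul_zero, zero_sub] at h1
    apply mul_left_cancel₀ hp0
    apply mul_left_cancel₀ he0'
    have h3 : ((p : ℂ) - 1) * W = (e : ℂ) * ((e : ℂ) + 1) := by
      rw [hpC, ← hWe]
      ring
    linear_combination h1 - W * h3 + W * (e : ℂ) * hpC
  -- the inner products, in terms of multiplicities
  have h11 := classInner_decomp hαcf hm1 hm1
  have h21 := classInner_decomp hαcf hm'1 hm1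
  have h12 := classInner_decomp hβcf hm1 hm'1
  have h22 := classInner_decomp hβcf hm'1 hm'1
  -- disjoint supports
  have hdisj : ∑ j, m' j * m j = 0 := by
    rw [sum_split D]
    rw [hc1, zero_mul, Finset.sum_eq_zero (fun j hj => by rw [hc2 j hj, zero_mul]),
      Finset.sum_eq_zero (s := setB D) (fun j hj => by rw [ha3 j hj, mul_zero]),
      Finset.sum_eq_zero (s := Finset.univ) (fun i'' _ => by rw [ha4 i'', mul_zero]),
      Finset.sum_eq_zero (s := setC D) (fun j hj => by rw [ha5 j hj, mul_zero])]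
    simp
  have hdisj' : ∑ j, m j * m' j = 0 := by
    rw [← hdisj]
    exact Finset.sum_congr rfl fun j _ => mul_comm _ _
  rw [h11, h21, hdisj] at hi1
  rw [h12, h22, hdisj'] at hi2
  have hα2 : ∑ j, m j * m j = XA + 1 := by
    have h1 : ((∑ j, m j * m j : ℕ) : ℂ) = ((XA + 1 : ℕ) : ℂ) := by
      push_cast at hi1 ⊢
      rw [hW] at hi1
      linear_combination hi1
    exact_mod_cast h1
  have hβ2 : ∑ j, m' j * m' j = XA + 1 := by
    have h1 : ((∑ j, m' j * m' j : ℕ) : ℂ) = ((XA + 1 : ℕ) : ℂ) := by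
      push_cast at hi2 ⊢
      rw [hW] at hi2
      linear_combination -hi2
    exact_mod_cast h1
  -- splitting the squares
  rw [sum_split D, ha1,
    Finset.sum_eq_zero (s := setB D) (fun j hj => by rw [ha3 j hj, zero_mul]),
    Finset.sum_eq_zero (s := Finset.univ) (fun i'' _ => by rw [ha4 i'', zero_mul]),
    Finset.sum_eq_zero (s := setC D) (fun j hj => by rw [ha5 j hj, zero_mul])] at hα2
  rw [sum_split D, hc1,
    Finset.sum_eq_zero (s := setA D) (fun j hj => by rw [hc2 j hj, zero_mul]),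
    Finset.sum_eq_zero (s := setC D) (fun j hj => by rw [hc4 j hj, zero_mul])] at hβ2
  have hAsq : ∑ j ∈ setA D, m j * m j = XA := by omega
  have hle1 : ∀ (S : Finset (IrrCharacter G)) (n : IrrCharacter G → ℕ),
      ∑ j ∈ S, n j ≤ ∑ j ∈ S, n j * n j := by
    intro S n
    apply Finset.sum_le_sum
    intro j _
    exact Nat.le_mul_self (n j)
  have hBsq := hle1 (setB D) m'
  have hYsq : ∑ i'', m' (D.ν i'') ≤ ∑ i'', m' (D.ν i'') * m' (D.ν i'') :=
    Finset.sum_le_sum (fun i'' _ => Nat.le_mul_self _)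
  -- the numbers
  have hYone : Y = 1 := by
    have h1 : 2 * XA + 1 = 2 * XB + Y := by omega
    have h2 : Y ≤ 1 := by omega
    omega
  have hXB : XB = XA := by omega
  have hBsq' : ∑ j ∈ setB D, m' j * m' j = XB := by omega
  -- the multiplicities are at most one
  have hle2 : ∀ (S : Finset (IrrCharacter G)) (n : IrrCharacter G → ℕ),
      ∑ j ∈ S, n j * n j = ∑ j ∈ S, n j → ∀ j ∈ S, n j ≤ 1 := by
    intro S n h j hj
    have h3 := (Finset.sum_eq_sum_iff_of_le (fun j _ => Nat.le_mul_self (n j))).mp h.symm j hj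
    by_contra hcon
    push Not at hcon
    nlinarith
  have hAle := hle2 (setA D) m hAsq
  have hBle := hle2 (setB D) m' hBsq'
  have hcard := card_setA_add D
  have hsumle : ∀ (S : Finset (IrrCharacter G)) (n : IrrCharacter G → ℕ), (∀ j ∈ S, n j ≤ 1) →
      ∑ j ∈ S, n j ≤ S.card := by
    intro S n h
    calc ∑ j ∈ S, n j ≤ ∑ _j ∈ S, 1 := Finset.sum_le_sum h
      _ = S.card := by simp
  have hA1 := hsumle _ _ hAle
  have hB1 := hsumle _ _ hBle
  have hAcard : (setA D).card = XA := by omega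
  have hBcard : (setB D).card = XA := by omega
  have hall : ∀ (S : Finset (IrrCharacter G)) (n : IrrCharacter G → ℕ), (∀ j ∈ S, n j ≤ 1) →
      ∑ j ∈ S, n j = S.card → ∀ j ∈ S, n j = 1 := by
    intro S n h1 h2
    have h3 : ∑ j ∈ S, n j = ∑ _j ∈ S, 1 := by rw [h2]; simp
    exact (Finset.sum_eq_sum_iff_of_le h1).mp h3
  have hAone := hall (setA D) m hAle (by rw [hAcard])
  have hBone := hall (setB D) m' hBle (by rw [hBcard, ← hXB])
  refine ⟨?_, ?_, by omega, by omega, ?_, ?_, ?_⟩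
  · intro j hj
    have h1 := ha2 j hj (by rw [hAone j hj]; omega)
    refine ⟨h1, ?_⟩
    have h2 := (deg_setA D hp2 hlin hj).2
    rw [h1] at h2
    have : (charDegree (j : G → ℂ) : ℤ) = (p + 1 : ℕ) := by
      rw [h2]
      push_cast
      ring
    exact_mod_cast this
  · intro j hj
    have h1 := hc3 j hj (by rw [hBone j hj]; omega)
    refine ⟨h1, ?_⟩
    have h2 := deg_setB D hp2 hj
    rw [h1] at h2
    have h3 : charDegree (j : G → ℂ) + 1 = p := by
      have : (charDegree (j : G → ℂ) : ℤ) + 1 = p := by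
        rw [h2]
        push_cast
        ring
      exact_mod_cast this
    omega
  · intro g
    have h1 := hm2 g
    rw [sum_split D, ha1] at h1
    have h2 : ∑ j ∈ setA D, (m j : ℂ) * (j : G → ℂ) g = ∑ j ∈ setA D, (j : G → ℂ) g := by
      refine Finset.sum_congr rfl fun j hj => ?_
      rw [hAone j hj]
      simp
    rw [h2, Finset.sum_eq_zero (s := setB D) (fun j hj => by rw [ha3 j hj]; simp),
      Finset.sum_eq_zero (s := Finset.univ) (fun i'' _ => by rw [ha4 i'']; simp),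
      Finset.sum_eq_zero (s := setC D) (fun j hj => by rw [ha5 j hj]; simp)] at h1
    have h3 : ((oneIrr G : IrrCharacter G) : G → ℂ) g = 1 := rfl
    rw [h3] at h1
    simp only [Nat.cast_one, mul_one, add_zero] at h1
    exact h1
  · intro g hg
    have h1 := hm'2 g
    rw [sum_split D, hc1] at h1
    have h2 : ∑ j ∈ setB D, (m' j : ℂ) * (j : G → ℂ) g = ∑ j ∈ setB D, (j : G → ℂ) g := by
      refine Finset.sum_congr rfl fun j hj => ?_
      rw [hBone j hj]
      simp
    have h3 : ∑ i'', (m' (D.ν i'') : ℂ) * (D.ν i'' : G → ℂ) g = (D.ν i : G → ℂ) g := by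
      simp only [ν_reg D hp2 _ i hg]
      rw [← Finset.sum_mul]
      have h4 : ∑ i'', (m' (D.ν i'') : ℂ) = ((Y : ℕ) : ℂ) := by
        rw [hY]
        push_cast
        rfl
      rw [h4, hYone]
      simp
    rw [h2, h3, Finset.sum_eq_zero (s := setA D) (fun j hj => by rw [hc2 j hj]; simp),
      Finset.sum_eq_zero (s := setC D) (fun j hj => by rw [hc4 j hj]; simp)] at h1
    simp only [Nat.cast_zero, zero_mul, zero_add, add_zero] at h1
    have h4 : tn D i i' g = (D.ν i : G → ℂ) g * conj ((D.ν i : G → ℂ) g) := by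
      simp only [tn]
      rw [ν_reg D hp2 i' i hg]
    rw [← h4, h1]
    ring
  · intro u hu
    rw [← tn_val D hp2 i i hu, hαval u hu, hAcard]

end Cfsg.Agent.Lib.BrauerP.Tuan
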