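import Cfsg.Agent.Lib.BrauerP.Tuan.Tools

/-!
# Tensor products of exceptional characters: generalities
-/

set_option autoImplicit false
set_option linter.unusedSectionVars false
set_option linter.unusedVariables false

namespace Cfsg.Agent.Lib.BrauerP.Tuan

open Cfsg Module MulAction
open Cfsg.Agent.Lib.Char.Basic Cfsg.Agent.Lib.Char.Ortho Cfsg.Agent.Lib.Char.Complete
open Cfsg.Agent.Lib.Char.Degree Cfsg.Agent.Lib.Char.Induced
open Cfsg.Agent.Lib.ExcP.Gram Cfsg.Agent.Lib.ExcP.Dual Cfsg.Agent.Lib.ExcP.Core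
open Cfsg.Agent.Lib.ExcP.Inst Cfsg.Agent.Lib.ExcP.BlockHA
open Cfsg.Agent.Lib.BrauerP.Data Cfsg.Agent.Lib.BrauerP.Data.BD Cfsg.Agent.Lib.BrauerP.Frob
open Cfsg.Agent.Lib.BrauerP.Fourier
open scoped ComplexConjugate Classical

universe u

variable {G : Type u} [Group G] [Fintype G] [Fintype (IrrCharacter G)] {p e : ℕ} [hp : Fact p.Prime]
  {P : Subgroup G} {hP : Nat.card P = p} [Fintype P] [Fintype (DD P p)]

variable (D : BD P p e hP) (hp2 : ¬ p ^ 2 ∣ Nat.card G)

/-- The sum over a fibre of the characters of `P`. -/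
noncomputable def sg (i : Fin D.t) (u : P) : ℂ :=
  ∑ d ∈ Finset.univ.filter (fun d => D.c d = i), dv hP d u

theorem sg_one (i : Fin D.t) : sg D i 1 = (e : ℂ) := by
  simp only [sg, dv_one]
  rw [Finset.sum_const, D.hfib]
  simp

include hp2 in
theorem val_ν' (i : Fin D.t) {u : P} (hu : u ≠ 1) : (D.ν i : G → ℂ) u = (D.ε : ℂ) * sg D i u :=
  D.val_ν hp2 i hu

include hp2 in
theorem sum_sg_sg (i i' : Fin D.t) :
    ∑ u : P, sg D i u * conj (sg D i' u) = if i = i' then (p : ℂ) * e else 0 := by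
  have h1 : ∀ u : P, sg D i u * conj (sg D i' u) =
      ∑ a ∈ Finset.univ.filter (fun d => D.c d = i), ∑ b ∈ Finset.univ.filter (fun d => D.c d = i'),
        dv hP a u * conj (dv hP b u) := by
    intro u
    rw [sg, sg, map_sum, Finset.sum_mul_sum]
  simp only [h1]
  rw [Finset.sum_comm]
  simp only [Finset.sum_comm (s := (Finset.univ : Finset P))]
  have h2 : ∀ a ∈ Finset.univ.filter (fun d => D.c d = i),
      ∑ b ∈ Finset.univ.filter (fun d => D.c d = i'), ∑ u : P, dv hP a u * conj (dv hP b u) =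
        if i = i' then (p : ℂ) else 0 := by
    intro a ha
    simp only [sum_dv_conj hp2]
    have hai : D.c a = i := (Finset.mem_filter.mp ha).2
    by_cases hii : i = i'
    · subst hii
      rw [if_pos rfl, Finset.sum_ite_eq, if_pos ha]
    · rw [if_neg hii]
      apply Finset.sum_eq_zero
      intro b hb
      have hbi : D.c b = i' := (Finset.mem_filter.mp hb).2
      rw [if_neg]
      rintro rfl
      exact hii (hai.symm.trans hbi)
  rw [Finset.sum_congr rfl h2, Finset.sum_const, D.hfib]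
  by_cases hii : i = i'
  · rw [if_pos hii, if_pos hii]
    simp
    ring
  · rw [if_neg hii, if_neg hii]
    simp

include hp2 in
/-- The sum of a nontrivial character over `P`. -/
theorem sum_dv_P (d : DD P p) : ∑ u : P, dv hP d u = 0 := by
  have hne := res_ne_one hP hp2 d
  have hex : ∃ v : P, dv hP d v ≠ 1 := by
    by_contra hcon
    push Not at hcon
    apply hne
    apply MonoidHom.ext
    intro v
    apply Units.ext
    have h1 := hcon v
    exact h1
  obtain ⟨v, hv⟩ := hex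
  have hsum : dv hP d v * ∑ u : P, dv hP d u = ∑ u : P, dv hP d u := by
    rw [Finset.mul_sum]
    simp only [← dv_mul]
    exact Fintype.sum_equiv (Equiv.mulLeft v) _ _ (fun _ => rfl)
  have h2 : (dv hP d v - 1) * ∑ u : P, dv hP d u = 0 := by
    rw [sub_mul, hsum, one_mul, sub_self]
  exact (mul_eq_zero.mp h2).resolve_left (sub_ne_zero.mpr hv)

include hp2 in
theorem sum_sg (i : Fin D.t) : ∑ u : P, sg D i u = 0 := by
  simp only [sg]
  rw [Finset.sum_comm]
  apply Finset.sum_eq_zero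
  intro d _
  exact sum_dv_P (hP := hP) hp2 d

include hp2 in
theorem sum_all_sg {u : P} (hu : u ≠ 1) : ∑ i, sg D i u = -1 := by
  simp only [sg]
  rw [Finset.sum_fiberwise]
  exact sum_dv hP hp2 hu

/-- The tensor product of an exceptional character with the dual of another one. -/
noncomputable def tn (i i' : Fin D.t) : G → ℂ :=
  fun g => (D.ν i : G → ℂ) g * conj ((D.ν i' : G → ℂ) g)

theorem isCharacter_tn (i i' : Fin D.t) : IsCharacter G (tn D i i') := by
  have h1 := isCharacter_of_isIrrCharacter (D.ν i).2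
  have h2 := isCharacter_of_isIrrCharacter (D.ν i').2
  have h3 := isCharacter_mul h1 (isCharacter_inv h2)
  convert h3 using 1
  funext g
  simp only [tn, Pi.mul_apply]
  rw [char_inv_eq_conj h2]

theorem ν_one (i : Fin D.t) : (D.ν i : G → ℂ) 1 = (D.D₀ : ℂ) := by
  rw [← charDegree_natCast (isCharacter_of_isIrrCharacter (D.ν i).2), D.hνdeg]

theorem tn_one (i i' : Fin D.t) : tn D i i' 1 = (D.D₀ : ℂ) ^ 2 := by
  simp only [tn]
  rw [ν_one, ν_one, map_natCast]
  ring

include hp2 in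
theorem tn_val (i i' : Fin D.t) {u : P} (hu : u ≠ 1) :
    tn D i i' u = sg D i u * conj (sg D i' u) := by
  simp only [tn]
  rw [val_ν' D hp2 i hu, val_ν' D hp2 i' hu, map_mul, map_intCast]
  have h3 : (D.ε : ℂ) * (D.ε : ℂ) = 1 := by
    have := D.ε_sq
    exact_mod_cast this
  linear_combination (sg D i u * conj (sg D i' u)) * h3

include hp2 in
theorem sum_tn (i i' : Fin D.t) :
    ∑ u : P, tn D i i' u = (D.D₀ : ℂ) ^ 2 - (e : ℂ) ^ 2 + if i = i' then (p : ℂ) * e else 0 := by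
  have h1 : ∀ u : P, tn D i i' u = sg D i u * conj (sg D i' u) +
      if u = 1 then (D.D₀ : ℂ) ^ 2 - (e : ℂ) ^ 2 else 0 := by
    intro u
    by_cases hu : u = 1
    · subst hu
      rw [if_pos rfl, sg_one, sg_one, map_natCast]
      have : (((1 : P) : G)) = 1 := rfl
      rw [this, tn_one]
      ring
    · rw [if_neg hu, add_zero, tn_val D hp2 i i' hu]
  simp only [h1]
  rw [Finset.sum_add_distrib, sum_sg_sg D hp2, Finset.sum_ite_eq' Finset.univ (1 : P),
    if_pos (Finset.mem_univ _)]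
  ring

/-- The multiplicity of the trivial character in a tensor product. -/
theorem tn_inner_one (i i' : Fin D.t) :
    classInner (tn D i i') ((oneIrr G : IrrCharacter G) : G → ℂ) = if i = i' then 1 else 0 := by
  have h1 : classInner (tn D i i') ((oneIrr G : IrrCharacter G) : G → ℂ) =
      classInner (D.ν i : G → ℂ) (D.ν i' : G → ℂ) := by
    rw [classInner_def, classInner_def]
    congr 1
    refine Finset.sum_congr rfl fun g _ => ?_
    simp [tn, oneIrr]
  rw [h1]
  by_cases h : i = i'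
  · subst h
    rw [if_pos rfl, classInner_self_of_isIrr (D.ν i).2]
  · rw [if_neg h]
    apply classInner_eq_zero_of_isIrr_of_ne (D.ν i).2 (D.ν i').2
    intro h2
    exact h (D.hνinj (Subtype.ext h2))

omit D hp2 [Fintype P] [Fintype (DD P p)] in
/-- The decomposition of a character. -/
theorem exists_decomp {γ : G → ℂ} (hγ : IsCharacter G γ) : ∃ m : IrrCharacter G → ℕ,
    (∀ j : IrrCharacter G, classInner γ (j : G → ℂ) = m j) ∧
    ∀ g, γ g = ∑ j : IrrCharacter G, (m j : ℂ) * (j : G → ℂ) g := by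
  obtain ⟨m, hm⟩ := exists_nat_combination hγ
  refine ⟨m, ?_, ?_⟩
  · intro j
    rw [hm]
    exact classInner_of_nat_combination m j
  · intro g
    rw [hm]
    simp [Finset.sum_apply]

omit D hp2 [Fintype P] [Fintype (DD P p)] in
theorem tensor_deg {γ : G → ℂ} {m : IrrCharacter G → ℕ}
    (hm : ∀ g, γ g = ∑ j : IrrCharacter G, (m j : ℂ) * (j : G → ℂ) g) :
    γ 1 = ((∑ j, m j * charDegree (j : G → ℂ) : ℕ) : ℂ) := by
  rw [hm]
  push_cast
  refine Finset.sum_congr rfl fun j _ => ?_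
  rw [charDegree_natCast (isCharacter_of_isIrrCharacter j.2)]

include hp2 in
omit D in
/-- The sum of a member over `P`. -/
theorem sum_P_eq (j : IrrCharacter G) :
    ∑ u : P, (j : G → ℂ) u = (p : ℂ) * (aP (hP := hP) hp2 j : ℂ) := by
  have hp0 : (p : ℂ) ≠ 0 := by exact_mod_cast hp.out.ne_zero
  have h3 := (aP_spec (hP := hP) hp2 j).1
  have h4 := congrArg conj h3
  rw [map_mul, map_inv₀, map_natCast, map_natCast, map_sum] at h4
  simp only [Complex.conj_conj] at h4
  rw [← h4]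
  field_simp

include hp2 in
omit D in
theorem tensor_sumP {γ : G → ℂ} {m : IrrCharacter G → ℕ}
    (hm : ∀ g, γ g = ∑ j : IrrCharacter G, (m j : ℂ) * (j : G → ℂ) g) :
    ∑ u : P, γ u = (p : ℂ) * ((∑ j, m j * aP (hP := hP) hp2 j : ℕ) : ℂ) := by
  simp only [hm]
  rw [Finset.sum_comm]
  push_cast
  rw [Finset.mul_sum]
  refine Finset.sum_congr rfl fun j _ => ?_
  rw [← Finset.mul_sum, sum_P_eq (hP := hP) hp2 j]
  ring

omit D hp2 [Fintype P] [Fintype (DD P p)] in
/-- The inner product of two characters. -/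
theorem classInner_decomp {γ γ' : G → ℂ} (hγ' : IsClassFunction G γ') {m m' : IrrCharacter G → ℕ}
    (h : ∀ j : IrrCharacter G, classInner γ (j : G → ℂ) = m j)
    (h' : ∀ j : IrrCharacter G, classInner γ' (j : G → ℂ) = m' j) :
    classInner γ γ' = ((∑ j, m j * m' j : ℕ) : ℂ) := by
  rw [classInner_eq_sum hγ']
  simp only [h, h', map_natCast]
  push_cast
  rfl

/-! ### The members of the block -/

include hp2

/-- Members of `A`. -/
theorem deg_setA (hlin : ∀ j : IrrCharacter G, charDegree (j : G → ℂ) = 1 → j = oneIrr G)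
    {j : IrrCharacter G} (hj : j ∈ setA D) :
    2 ≤ aP (hP := hP) hp2 j ∧
      (charDegree (j : G → ℂ) : ℤ) = 1 + ((aP (hP := hP) hp2 j : ℤ) - 1) * p := by
  obtain ⟨h1, h2⟩ := (Finset.mem_filter.mp hj).2
  have hp1 := hp.out.two_le
  have h3 := D.deg_z hp2 (j := j) (by rw [h1]; norm_num)
  rw [h1] at h3
  have h4 : (charDegree (j : G → ℂ) : ℤ) = 1 + ((aP (hP := hP) hp2 j : ℤ) - 1) * p := by
    rw [h3]
    ring
  refine ⟨?_, h4⟩
  by_contra hlt
  have hpos : (0 : ℤ) < charDegree (j : G → ℂ) := by exact_mod_cast charDegree_pos j.2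
  have ha : aP (hP := hP) hp2 j = 0 ∨ aP (hP := hP) hp2 j = 1 := by omega
  have hpZ : (2 : ℤ) ≤ p := by exact_mod_cast hp1
  rcases ha with ha | ha
  · rw [ha] at h4
    push_cast at h4
    linarith
  · rw [ha] at h4
    push_cast at h4
    have h5 : charDegree (j : G → ℂ) = 1 := by
      have : (charDegree (j : G → ℂ) : ℤ) = 1 := by rw [h4]; ring
      exact_mod_cast this
    exact h2 (hlin j h5)

/-- Members of `B`. -/
theorem deg_setB {j : IrrCharacter G} (hj : j ∈ setB D) :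
    (charDegree (j : G → ℂ) : ℤ) = ((aP (hP := hP) hp2 j : ℤ) + 1) * p - 1 := by
  have h1 := (Finset.mem_filter.mp hj).2
  have h3 := D.deg_z hp2 (j := j) (by rw [h1]; norm_num)
  rw [h1] at h3
  rw [h3]
  ring

/-- Members of `C`. -/
theorem deg_setC (hC : Cn P = P) {j : IrrCharacter G} (hj : j ∈ setC D) :
    1 ≤ aP (hP := hP) hp2 j ∧ charDegree (j : G → ℂ) = p * aP (hP := hP) hp2 j := by
  obtain ⟨h4, h5⟩ := (Finset.mem_filter.mp hj).2
  have h1 := D.deg_other hp2 hC h4 h5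
  refine ⟨?_, h1⟩
  by_contra hlt
  have h2 : aP (hP := hP) hp2 j = 0 := by omega
  rw [h2, mul_zero] at h1
  exact (charDegree_pos j.2).ne' h1

/-- The value at `u` of a character, in terms of its decomposition. -/
theorem tensor_val (hC : Cn P = P) {γ : G → ℂ} {m : IrrCharacter G → ℕ}
    (hm : ∀ g, γ g = ∑ j : IrrCharacter G, (m j : ℂ) * (j : G → ℂ) g) {u : P} (hu : u ≠ 1) :
    γ u = (m (oneIrr G) : ℂ) + ((∑ j ∈ setA D, m j : ℕ) : ℂ) - ((∑ j ∈ setB D, m j : ℕ) : ℂ) +
      ∑ i, (m (D.ν i) : ℂ) * (D.ν i : G → ℂ) u := by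
  rw [hm, sum_split D]
  have h1 : ((oneIrr G : IrrCharacter G) : G → ℂ) u = 1 := rfl
  have hA : ∑ j ∈ setA D, (m j : ℂ) * (j : G → ℂ) u = ((∑ j ∈ setA D, m j : ℕ) : ℂ) := by
    push_cast
    refine Finset.sum_congr rfl fun j hj => ?_
    have h2 := (Finset.mem_filter.mp hj).2.1
    have h3 := D.val_z hp2 (j := j) (by rw [h2]; norm_num) hu
    rw [h3, h2]
    simp
  have hB : ∑ j ∈ setB D, (m j : ℂ) * (j : G → ℂ) u = -((∑ j ∈ setB D, m j : ℕ) : ℂ) := by
    push_cast
    rw [← Finset.sum_neg_distrib]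
    refine Finset.sum_congr rfl fun j hj => ?_
    have h2 := (Finset.mem_filter.mp hj).2
    have h3 := D.val_z hp2 (j := j) (by rw [h2]; norm_num) hu
    rw [h3, h2]
    simp
  have hCC : ∑ j ∈ setC D, (m j : ℂ) * (j : G → ℂ) u = 0 := by
    apply Finset.sum_eq_zero
    intro j hj
    obtain ⟨h4, h5⟩ := (Finset.mem_filter.mp hj).2
    rw [D.val_other hp2 hC h4 h5 hu, mul_zero]
  rw [h1, hA, hB, hCC]
  ring

/-- The degree of a character, in terms of its decomposition. -/
theorem split_deg (hlin : ∀ j : IrrCharacter G, charDegree (j : G → ℂ) = 1 → j = oneIrr G)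
    (hC : Cn P = P) (m : IrrCharacter G → ℕ) :
    ((∑ j, m j * charDegree (j : G → ℂ) : ℕ) : ℤ) = (m (oneIrr G) : ℤ) +
      (((∑ j ∈ setA D, m j : ℕ) : ℤ) + p * ((∑ j ∈ setA D, m j * aP (hP := hP) hp2 j : ℕ) : ℤ)
        - p * ((∑ j ∈ setA D, m j : ℕ) : ℤ)) +
      (p * ((∑ j ∈ setB D, m j * aP (hP := hP) hp2 j : ℕ) : ℤ) + p * ((∑ j ∈ setB D, m j : ℕ) : ℤ)
        - ((∑ j ∈ setB D, m j : ℕ) : ℤ)) +
      ((∑ i, m (D.ν i) : ℕ) : ℤ) * D.D₀ +
      p * ((∑ j ∈ setC D, m j * aP (hP := hP) hp2 j : ℕ) : ℤ) := by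
  rw [sum_split D, charDegree_oneIrr]
  have hA : ((∑ j ∈ setA D, m j * charDegree (j : G → ℂ) : ℕ) : ℤ) =
      ((∑ j ∈ setA D, m j : ℕ) : ℤ) + p * ((∑ j ∈ setA D, m j * aP (hP := hP) hp2 j : ℕ) : ℤ)
        - p * ((∑ j ∈ setA D, m j : ℕ) : ℤ) := by
    push_cast
    simp only [Finset.mul_sum, ← Finset.sum_add_distrib, ← Finset.sum_sub_distrib]
    refine Finset.sum_congr rfl fun j hj => ?_
    rw [(deg_setA D hp2 hlin hj).2]
    ring
  have hB : ((∑ j ∈ setB D, m j * charDegree (j : G → ℂ) : ℕ) : ℤ) =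
      p * ((∑ j ∈ setB D, m j * aP (hP := hP) hp2 j : ℕ) : ℤ) + p * ((∑ j ∈ setB D, m j : ℕ) : ℤ)
        - ((∑ j ∈ setB D, m j : ℕ) : ℤ) := by
    push_cast
    simp only [Finset.mul_sum, ← Finset.sum_add_distrib, ← Finset.sum_sub_distrib]
    refine Finset.sum_congr rfl fun j hj => ?_
    rw [deg_setB D hp2 hj]
    ring
  have hY : ((∑ i, m (D.ν i) * charDegree (D.ν i : G → ℂ) : ℕ) : ℤ) =
      ((∑ i, m (D.ν i) : ℕ) : ℤ) * D.D₀ := by
    push_cast
    rw [Finset.sum_mul]
    refine Finset.sum_congr rfl fun i _ => ?_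
    rw [D.hνdeg]
  have hCC : ((∑ j ∈ setC D, m j * charDegree (j : G → ℂ) : ℕ) : ℤ) =
      p * ((∑ j ∈ setC D, m j * aP (hP := hP) hp2 j : ℕ) : ℤ) := by
    push_cast
    simp only [Finset.mul_sum]
    refine Finset.sum_congr rfl fun j hj => ?_
    rw [(deg_setC D hp2 hC hj).2]
    push_cast
    ring
  push_cast at hA hB hY hCC ⊢
  rw [hA, hB, hY, hCC]
  ring

/-- All exceptional members have the same multiplicity. -/
theorem aP_ν_eq (i i' : Fin D.t) :
    aP (hP := hP) hp2 (D.ν i) = aP (hP := hP) hp2 (D.ν i') := by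
  have h1 := D.deg_ν hp2 i
  have h2 := D.deg_ν hp2 i'
  have hp0 : (p : ℤ) ≠ 0 := by exact_mod_cast hp.out.ne_zero
  have h3 : (p : ℤ) * (aP (hP := hP) hp2 (D.ν i) : ℤ) = p * (aP (hP := hP) hp2 (D.ν i') : ℤ) := by
    linarith
  have h4 := mul_left_cancel₀ hp0 h3
  exact_mod_cast h4

/-- The multiplicity, in terms of the decomposition. -/
theorem split_a (m : IrrCharacter G → ℕ) {a₀ : ℕ} (ha₀ : ∀ i, aP (hP := hP) hp2 (D.ν i) = a₀) :
    ∑ j, m j * aP (hP := hP) hp2 j = m (oneIrr G) + (∑ j ∈ setA D, m j * aP (hP := hP) hp2 j) +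
      (∑ j ∈ setB D, m j * aP (hP := hP) hp2 j) + (∑ i, m (D.ν i)) * a₀ +
      ∑ j ∈ setC D, m j * aP (hP := hP) hp2 j := by
  rw [sum_split D, aP_one hp2, Finset.sum_mul]
  simp only [ha₀]
  ring

end Cfsg.Agent.Lib.BrauerP.Tuan
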