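import Cfsg.Agent.Lib.BrauerP.Reynolds
import Cfsg.Agent.Lib.Char.ClassProd
import Cfsg.Agent.Lib.Char.Burnside

/-!
# Tools for groups of order `p q^b g₀`

* A nontrivial member of the principal block of degree less than `p` forces `C(P) = P`.
* Burnside's vanishing lemma for irreducible characters of a simple group.
* Class functions vanishing on `p`-regular elements, when `C(P) = P`.
-/

set_option autoImplicit false
set_option linter.unusedSectionVars false
set_option linter.unusedVariables false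

namespace Cfsg.Agent.Lib.BrauerP.Tuan

open Cfsg Module MulAction
open Cfsg.Agent.Lib.Char.Basic Cfsg.Agent.Lib.Char.Ortho Cfsg.Agent.Lib.Char.Complete
open Cfsg.Agent.Lib.Char.Degree Cfsg.Agent.Lib.Char.Induced
open Cfsg.Agent.Lib.ExcP.Gram Cfsg.Agent.Lib.ExcP.Dual Cfsg.Agent.Lib.ExcP.Core
open Cfsg.Agent.Lib.ExcP.Inst Cfsg.Agent.Lib.ExcP.BlockHA
open Cfsg.Agent.Lib.BrauerP.Data Cfsg.Agent.Lib.BrauerP.Data.BD Cfsg.Agent.Lib.BrauerP.Frob
open Cfsg.Agent.Lib.BrauerP.Fourier
open scoped ComplexConjugate Classical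

universe u

section Generic

variable {G : Type u} [Group G] [Fintype G]

/-- An irreducible character which is constant is trivial. -/
theorem eq_one_of_const (F : IrrCharacter G) (h : ∀ g, (F : G → ℂ) g = (F : G → ℂ) 1) :
    F = oneIrr G := by
  have hχ := isCharacter_of_isIrrCharacter F.2
  have h1 := classInner_self_of_isIrr F.2
  have hd : (F : G → ℂ) 1 = (charDegree (F : G → ℂ) : ℂ) := (charDegree_natCast hχ).symm
  have hG : (Nat.card G : ℂ) ≠ 0 := card_ne_zero_complex
  rw [classInner_def] at h1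
  simp only [h] at h1
  rw [Finset.sum_const, Finset.card_univ, nsmul_eq_mul, ← Nat.card_eq_fintype_card,
    inv_mul_cancel_left₀ hG, hd, map_natCast] at h1
  have h2 : charDegree (F : G → ℂ) * charDegree (F : G → ℂ) = 1 := by exact_mod_cast h1
  have h3 : charDegree (F : G → ℂ) = 1 := Nat.eq_one_of_mul_eq_one_right h2
  apply Subtype.ext
  funext g
  rw [h g, hd, h3]
  simp [oneIrr]

variable [IsSimpleGroup G]

/-- The kernel of a nontrivial irreducible character of a simple group is trivial. -/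
theorem charKer_eq_bot {F : IrrCharacter G} (hF : F ≠ oneIrr G) :
    charKer (isCharacter_of_isIrrCharacter F.2) = ⊥ := by
  rcases IsSimpleGroup.eq_bot_or_eq_top_of_normal
    (charKer (isCharacter_of_isIrrCharacter F.2)) inferInstance with h | h
  · exact h
  · exfalso
    apply hF
    apply eq_one_of_const
    intro g
    have h1 : g ∈ charKer (isCharacter_of_isIrrCharacter F.2) := by rw [h]; trivial
    exact h1

/-- If the norm of a value of a nontrivial irreducible character is the degree, the element is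
trivial. -/
theorem eq_one_of_norm_eq (hcen : Subgroup.center G = ⊥) {F : IrrCharacter G} (hF : F ≠ oneIrr G) {g : G}
    (h : ‖(F : G → ℂ) g‖ = (charDegree (F : G → ℂ) : ℝ)) : g = 1 := by
  obtain ⟨n, ρ, hirr, hρ⟩ := F.2
  have hdeg : charDegree (F : G → ℂ) = finrank ℂ (Fin n → ℂ) := by
    have hχ := isCharacter_of_isIrrCharacter F.2
    have h1 := charDegree_natCast hχ
    rw [← hρ, Representation.char_one] at h1
    rw [← hρ]
    exact_mod_cast h1
  rw [hdeg, ← hρ] at h
  obtain ⟨ω, hω⟩ := (Cfsg.Agent.Lib.Char.Eigen.norm_character_eq_iff_scalar ρ g).mp h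
  -- `ρ` is injective
  have hinj : Function.Injective ρ := by
    rw [← MonoidHom.ker_eq_bot_iff]
    rcases IsSimpleGroup.eq_bot_or_eq_top_of_normal (ρ : G →* End ℂ (Fin n → ℂ)).ker inferInstance with h1 | h1
    · exact h1
    · exfalso
      apply hF
      apply eq_one_of_const
      intro x
      have h2 : x ∈ (ρ : G →* End ℂ (Fin n → ℂ)).ker := by rw [h1]; trivial
      have h3 : ρ x = 1 := MonoidHom.mem_ker.mp h2
      rw [← hρ, Representation.character, h3, Representation.character]
      simp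
  have hgc : g ∈ Subgroup.center G := by
    rw [Subgroup.mem_center_iff]
    intro x
    apply hinj
    rw [map_mul, map_mul, hω]
    ext v i
    simp
  rw [hcen] at hgc
  exact Subgroup.mem_bot.mp hgc

/-- **Burnside's vanishing lemma**, for a nontrivial irreducible character of a simple group. -/
theorem val_eq_zero_of_coprime (hcen : Subgroup.center G = ⊥) {F : IrrCharacter G} (hF : F ≠ oneIrr G)
    {g : G} (hg : g ≠ 1)
    (hcop : Nat.Coprime (charDegree (F : G → ℂ)) (Subgroup.centralizer ({g} : Set G)).index) :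
    (F : G → ℂ) g = 0 := by
  obtain ⟨n, ρ, hirr, hρ⟩ := id F.2
  have := hirr
  have hdeg : charDegree (F : G → ℂ) = finrank ℂ (Fin n → ℂ) := by
    have hχ := isCharacter_of_isIrrCharacter F.2
    have h1 := charDegree_natCast hχ
    rw [← hρ, Representation.char_one] at h1
    rw [← hρ]
    exact_mod_cast h1
  rw [hdeg] at hcop
  rcases Cfsg.Agent.Lib.Char.Galois.character_eq_zero_or_norm_eq_of_coprime ρ g hcop with h0 | h1
  · rw [← hρ]
    exact h0
  · exfalso
    apply hg
    apply eq_one_of_norm_eq hcen hF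
    rw [hdeg, ← hρ]
    exact h1

end Generic

section Block

variable {G : Type u} [Group G] [Fintype G] [Fintype (IrrCharacter G)] {p e : ℕ} [hp : Fact p.Prime]
  {P : Subgroup G} {hP : Nat.card P = p} [Fintype P] [Fintype (DD P p)]

/-- A nontrivial member of the principal block of degree less than `p` forces `C(P) = P`. -/
theorem cent_of_small [IsSimpleGroup G] (hP : Nat.card P = p) (hp2 : ¬ p ^ 2 ∣ Nat.card G)
    {M : Ideal AlgInt} (hM : IsPModular p M) {F : IrrCharacter G} (hF : F ∈ principalBlock M G)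
    (hF1 : F ≠ oneIrr G) (hdeg : charDegree (F : G → ℂ) < p) : Cn P = P := by
  classical
  have hpp := hp.out.two_le
  obtain ⟨V, hVn, hV, hq, hc⟩ := exists_complement hP hp2
  have hle := le_centralizer hP
  let _ : Fintype (Cn P) := Fintype.ofFinite _
  let _ : Fintype V := Fintype.ofFinite _
  let P' := P.subgroupOf (Cn P)
  have hP' : Nat.card P' = p := by
    rw [← hP]
    exact Nat.card_congr (Subgroup.subgroupOfEquivOfLe hle).toEquiv
  let _ : Fintype P' := Fintype.ofFinite _
  set f := charDegree (F : G → ℂ) with hf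
  have hχ := isCharacter_of_isIrrCharacter F.2
  have hone : (F : G → ℂ) 1 = (f : ℂ) := (charDegree_natCast hχ).symm
  -- the values on `y v`
  have hval : ∀ (y : P') (v : V), y ≠ 1 →
      (F : G → ℂ) (((y : Cn P) * (v : Cn P) : Cn P) : G) = (F : G → ℂ) ((y : Cn P) : G) := by
    intro y v hy
    have hyP : ((y : Cn P) : G) ∈ P := y.2
    have hy1 : ((y : Cn P) : G) ≠ 1 := fun h => hy (Subtype.ext (Subtype.ext h))
    have hord : ∃ k : ℕ, orderOf ((y : Cn P) : G) = p ^ k := by
      have h1 : IsPGroup p P := IsPGroup.of_card (n := 1) (by rw [hP, pow_one])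
      obtain ⟨k, hk⟩ := (IsPGroup.iff_orderOf.mp h1) ⟨_, hyP⟩
      exact ⟨k, by rwa [Subgroup.orderOf_mk] at hk⟩
    have h2 := value_of_principal hM hord (centralizer_singleton_eq hP hyP hy1) V hVn hV hF v.2
    push_cast
    rw [h2]
  -- the three sums
  obtain ⟨N, hN⟩ := exists_sum_subgroup (Cn P) F
  obtain ⟨a, ha⟩ := exists_sum_subgroup P F
  let V' : Subgroup G := V.map (Cn P).subtype
  let _ : Fintype V' := Fintype.ofFinite _
  obtain ⟨d, hd⟩ := exists_sum_subgroup V' F
  have hV'card : Nat.card V' = Nat.card V :=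
    Nat.card_congr (Subgroup.equivMapOfInjective V (Cn P).subtype Subtype.val_injective).symm.toEquiv
  have hV'sum : ∑ h : V', (F : G → ℂ) h = ∑ v : V, (F : G → ℂ) ((v : Cn P) : G) := by
    refine (Fintype.sum_equiv (Subgroup.equivMapOfInjective V (Cn P).subtype Subtype.val_injective).toEquiv
      _ _ ?_).symm
    intro v
    rfl
  rw [hV'sum, hV'card] at hd
  have hcardC : Nat.card (Cn P) = p * Nat.card V := by
    have h1 := hc.card_mul_card
    rw [hP'] at h1
    exact h1.symm
  have hbij : Function.Bijective (fun x : P' × V => ((x.1 : Cn P) * (x.2 : Cn P) : Cn P)) := hc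
  have hsum : ∑ c : Cn P, (F : G → ℂ) (c : G) =
      ∑ y : P', ∑ v : V, (F : G → ℂ) (((y : Cn P) * (v : Cn P) : Cn P) : G) := by
    rw [← hbij.sum_comp (fun c : Cn P => (F : G → ℂ) (c : G)), Fintype.sum_prod_type]
  have hsplit : ∀ y : P', ∑ v : V, (F : G → ℂ) (((y : Cn P) * (v : Cn P) : Cn P) : G) =
      (if y = 1 then (∑ v : V, (F : G → ℂ) ((v : Cn P) : G)) - (Nat.card V : ℂ) * (f : ℂ) else 0) +
        (Nat.card V : ℂ) * (F : G → ℂ) ((y : Cn P) : G) := by
    intro y
    by_cases hy : y = 1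
    · subst hy
      rw [if_pos rfl]
      have h1 : ((((1 : P') : Cn P) : G)) = 1 := rfl
      rw [h1, hone]
      have h2 : ∀ v : V, (F : G → ℂ) ((((1 : P') : Cn P) * (v : Cn P) : Cn P) : G) =
          (F : G → ℂ) ((v : Cn P) : G) := by
        intro v
        simp
      simp only [h2]
      ring
    · rw [if_neg hy, zero_add]
      rw [Finset.sum_congr rfl (fun v _ => hval y v hy), Finset.sum_const, Finset.card_univ,
        ← Nat.card_eq_fintype_card, nsmul_eq_mul]
  have hPsum : ∑ y : P', (F : G → ℂ) ((y : Cn P) : G) = ∑ u : P, (F : G → ℂ) u := by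
    refine Fintype.sum_equiv (Subgroup.subgroupOfEquivOfLe hle).toEquiv _ _ ?_
    intro y
    rfl
  have hVpos : (Nat.card V : ℂ) ≠ 0 := by exact_mod_cast (Nat.card_pos (α := V)).ne'
  have hrel : (p : ℂ) * (N : ℂ) = (d : ℂ) - (f : ℂ) + (p : ℂ) * (a : ℂ) := by
    rw [hsum] at hN
    simp only [hsplit] at hN
    rw [Finset.sum_add_distrib, Finset.sum_ite_eq', if_pos (Finset.mem_univ _), ← Finset.mul_sum, hPsum,
      ha, hd, hP, hcardC] at hN
    push_cast at hN
    apply mul_left_cancel₀ hVpos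
    linear_combination -hN
  have hnat : p * N + f = d + p * a := by
    have : ((p * N + f : ℕ) : ℂ) = ((d + p * a : ℕ) : ℂ) := by
      push_cast
      linear_combination hrel
    exact_mod_cast this
  -- the size of `d`
  have hd_le : d ≤ f := by
    have h1 : ‖∑ v : V, (F : G → ℂ) ((v : Cn P) : G)‖ ≤ ∑ v : V, (f : ℝ) :=
      norm_sum_le_of_le _ (fun v _ => norm_le_charDegree hχ _)
    rw [hd, Finset.sum_const, Finset.card_univ, ← Nat.card_eq_fintype_card, nsmul_eq_mul, norm_mul,
      Complex.norm_natCast, Complex.norm_natCast] at h1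
    have hVr : (0 : ℝ) < Nat.card V := by exact_mod_cast (Nat.card_pos (α := V))
    have h2 : (d : ℝ) ≤ f := le_of_mul_le_mul_left h1 hVr
    exact_mod_cast h2
  have hd_eq : d = f := by
    -- `d ≡ f` modulo `p`
    have h1 : (p : ℤ) ∣ (f : ℤ) - d := ⟨(a : ℤ) - N, by
      have : ((p * N + f : ℕ) : ℤ) = ((d + p * a : ℕ) : ℤ) := by rw [hnat]
      push_cast at this
      linear_combination this⟩
    have h2 := Int.eq_zero_of_abs_lt_dvd h1 (by
      rw [abs_lt]
      constructor <;> omega)
    omega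
  -- each value is the degree
  have hre : ∑ v : V, ((f : ℝ) - ((F : G → ℂ) ((v : Cn P) : G)).re) = 0 := by
    have h1 := congrArg Complex.re hd
    rw [Complex.re_sum] at h1
    rw [Finset.sum_sub_distrib, h1, Finset.sum_const, Finset.card_univ, ← Nat.card_eq_fintype_card,
      nsmul_eq_mul, hd_eq]
    simp [Complex.mul_re]
  have hnorm : ∀ v : V, ‖(F : G → ℂ) ((v : Cn P) : G)‖ ≤ (f : ℝ) := fun v => norm_le_charDegree hχ _
  have hnonneg : ∀ v : V, 0 ≤ (f : ℝ) - ((F : G → ℂ) ((v : Cn P) : G)).re := by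
    intro v
    have h1 := Complex.re_le_norm ((F : G → ℂ) ((v : Cn P) : G))
    have h2 := hnorm v
    linarith
  have hall := (Finset.sum_eq_zero_iff_of_nonneg (fun v _ => hnonneg v)).mp hre
  have hker := charKer_eq_bot hF1
  have hV1 : ∀ v : V, ((v : Cn P) : G) = 1 := by
    intro v
    have h1 := hall v (Finset.mem_univ _)
    have h2 : ((F : G → ℂ) ((v : Cn P) : G)).re = (f : ℝ) := by linarith
    have h3 : ‖(F : G → ℂ) ((v : Cn P) : G)‖ = (f : ℝ) := by
      apply le_antisymm (hnorm v)
      rw [← h2]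
      exact Complex.re_le_norm _
    have h5 : ((F : G → ℂ) ((v : Cn P) : G)).im = 0 := by
      have h6 := Complex.sq_norm ((F : G → ℂ) ((v : Cn P) : G))
      rw [Complex.normSq_apply, h3, h2] at h6
      have h7 : ((F : G → ℂ) ((v : Cn P) : G)).im * ((F : G → ℂ) ((v : Cn P) : G)).im = 0 := by
        nlinarith
      exact mul_self_eq_zero.mp h7
    have h6 : (F : G → ℂ) ((v : Cn P) : G) = (F : G → ℂ) 1 := by
      rw [hone]
      apply Complex.ext
      · rw [h2]
        simp
      · rw [h5]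
        simp
    have h7 : ((v : Cn P) : G) ∈ charKer hχ := h6
    rw [hker] at h7
    exact Subgroup.mem_bot.mp h7
  -- conclusion
  apply le_antisymm _ hle
  intro c hc'
  obtain ⟨⟨y, v⟩, hyv⟩ := hbij.2 ⟨c, hc'⟩
  have h1 : ((y : Cn P) : G) * ((v : Cn P) : G) = c := congrArg Subtype.val hyv
  rw [hV1 v, mul_one] at h1
  rw [← h1]
  exact y.2

omit [Fintype (IrrCharacter G)] [Fintype P] [Fintype (DD P p)] in
/-- An element of `P` conjugated into `P` forces the conjugator into the normalizer. -/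
theorem mem_normalizer_of_conj_mem (hP : Nat.card P = p) {u x : G} (hu : u ∈ P) (hu1 : u ≠ 1)
    (hx : x⁻¹ * u * x ∈ P) : x ∈ Nn P := by
  have hz := eq_zpowers_of_mem hP hu hu1
  have hne : x⁻¹ * u * x ≠ 1 := by
    intro h
    apply hu1
    calc u = x * (x⁻¹ * u * x) * x⁻¹ := by group
      _ = 1 := by rw [h]; group
  have hz' := eq_zpowers_of_mem hP hx hne
  rw [Subgroup.mem_normalizer_iff]
  intro h
  constructor
  · intro hh
    rw [hz'] at hh
    obtain ⟨k, rfl⟩ := Subgroup.mem_zpowers_iff.mp hh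
    have h1 : x * (x⁻¹ * u * x) ^ k * x⁻¹ = u ^ k := by
      have : x⁻¹ * u * x = x⁻¹ * u * x⁻¹⁻¹ := by simp
      rw [this, conj_zpow]
      group
    rw [h1]
    exact P.zpow_mem hu k
  · intro hh
    rw [hz] at hh
    obtain ⟨k, hk⟩ := Subgroup.mem_zpowers_iff.mp hh
    have h1 : h = (x⁻¹ * u * x) ^ k := by
      have : x⁻¹ * u * x = x⁻¹ * u * x⁻¹⁻¹ := by simp
      rw [this, conj_zpow, hk]
      group
    rw [h1]
    exact P.zpow_mem hx k

omit [Fintype (IrrCharacter G)] [Fintype P] [Fintype (DD P p)] in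
/-- An element whose order is divisible by `p` is conjugate to a nontrivial element of `P`. -/
theorem exists_conj_mem (hP : Nat.card P = p) (hp2 : ¬ p ^ 2 ∣ Nat.card G) (hC : Cn P = P) {g : G}
    (hg : p ∣ orderOf g) : ∃ x : G, x⁻¹ * g * x ∈ P ∧ x⁻¹ * g * x ≠ 1 := by
  classical
  have hpp := hp.out.two_le
  -- `P` is a Sylow subgroup
  obtain ⟨Q₀, hQ₀le⟩ := (isPGroup_of_card hP).exists_le_sylow
  have hQ₀ : (Q₀ : Subgroup G) = P := by
    symm
    apply Subgroup.eq_of_le_of_card_ge hQ₀le
    rw [hP]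
    have h1 : Nat.card Q₀ = p ^ (Nat.card G).factorization p := Q₀.card_eq_multiplicity
    have h2 : (Nat.card G).factorization p ≤ 1 := by
      by_contra hcon
      push Not at hcon
      exact hp2 ((hp.out.pow_dvd_iff_le_factorization Nat.card_pos.ne').mpr hcon)
    show Nat.card Q₀ ≤ p
    rw [h1]
    calc p ^ (Nat.card G).factorization p ≤ p ^ 1 := Nat.pow_le_pow_right (by omega) h2
      _ = p := pow_one p
  -- the element of order `p`
  obtain ⟨m, hm⟩ := hg
  have hg0 : 0 < orderOf g := orderOf_pos g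
  have hm0 : 0 < m := by
    rcases Nat.eq_zero_or_pos m with h | h
    · rw [h, mul_zero] at hm
      omega
    · exact h
  set g' := g ^ m with hg'
  have hord : orderOf g' = p := by
    rw [hg', orderOf_pow' g hm0.ne', hm]
    rw [Nat.gcd_mul_left_left]
    exact Nat.mul_div_cancel _ hm0
  have hzp : IsPGroup p (Subgroup.zpowers g') :=
    IsPGroup.of_card (n := 1) (by rw [Nat.card_zpowers, hord, pow_one])
  obtain ⟨Q, hQ⟩ := hzp.exists_le_sylow
  obtain ⟨x, hx⟩ := MulAction.exists_smul_eq G Q₀ Q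
  have hg'Q : g' ∈ (Q : Subgroup G) := hQ (Subgroup.mem_zpowers g')
  rw [← hx, Sylow.coe_subgroup_smul, Subgroup.mem_pointwise_smul_iff_inv_smul_mem, hQ₀] at hg'Q
  have h1 : x⁻¹ * g' * x ∈ P := by
    have h2 : (MulAut.conj x)⁻¹ • g' = x⁻¹ * g' * x := by
      rw [MulAut.smul_def, MulAut.inv_def, MulAut.conj_symm_apply]
    rwa [h2] at hg'Q
  have hne : x⁻¹ * g' * x ≠ 1 := by
    intro h
    have h2 : g' = 1 := by
      calc g' = x * (x⁻¹ * g' * x) * x⁻¹ := by group
        _ = 1 := by rw [h]; group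
    rw [h2, orderOf_one] at hord
    omega
  have hcomm : (x⁻¹ * g * x) * (x⁻¹ * g' * x) = (x⁻¹ * g' * x) * (x⁻¹ * g * x) := by
    have h2 : g * g' = g' * g := by
      rw [hg']
      exact (Commute.pow_right (Commute.refl g) m)
    calc (x⁻¹ * g * x) * (x⁻¹ * g' * x) = x⁻¹ * (g * g') * x := by group
      _ = x⁻¹ * (g' * g) * x := by rw [h2]
      _ = _ := by group
  have hmem : x⁻¹ * g * x ∈ P := by
    have h2 : x⁻¹ * g * x ∈ Subgroup.centralizer ({x⁻¹ * g' * x} : Set G) := by
      rw [Subgroup.mem_centralizer_singleton_iff]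
      exact hcomm
    rw [← centralizer_singleton_eq hP h1 hne, hC] at h2
    exact h2
  refine ⟨x, hmem, ?_⟩
  intro h
  rw [h] at hcomm
  have h3 : g = 1 := by
    calc g = x * (x⁻¹ * g * x) * x⁻¹ := by group
      _ = 1 := by rw [h]; group
  rw [h3, orderOf_one] at hg0
  rw [h3, orderOf_one] at hm
  have : p ∣ 1 := ⟨m, hm⟩
  exact hp.out.one_lt.ne' (Nat.dvd_one.mp this)

/-- Inducing the restriction of a class function vanishing on the regular elements. -/
theorem indFun_of_vanish (hP : Nat.card P = p) (hp2 : ¬ p ^ 2 ∣ Nat.card G) (hC : Cn P = P)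
    (hN : Nat.card (Nn P) = p * e) {f : G → ℂ} (hf : IsClassFunction G f)
    (hreg : ∀ g, ¬ p ∣ orderOf g → f g = 0) (g : G) :
    indFun P (fun u : P => f u) g = (e : ℂ) * f g := by
  classical
  have hp0 : (p : ℂ) ≠ 0 := by exact_mod_cast hp.out.ne_zero
  have hfc := isClassFunction_iff_isConj.mp hf
  by_cases hg : p ∣ orderOf g
  · obtain ⟨x, hx, hx1⟩ := exists_conj_mem hP hp2 hC hg
    set u := x⁻¹ * g * x with hu
    have hgu : IsConj g u := isConj_iff.mpr ⟨x⁻¹, by rw [hu]; group⟩
    have h1 := isClassFunction_iff_isConj.mp (isClassFunction_indFun P (fun u : P => f u)) g u hgu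
    rw [h1, hfc g u hgu, indFun_apply]
    have h2 : ∀ y : G, extendByZero P (fun u : P => f u) (y⁻¹ * u * y) = if y ∈ Nn P then f u else 0 := by
      intro y
      by_cases hy : y ∈ Nn P
      · rw [if_pos hy]
        have h3 : y⁻¹ * u * y ∈ P := by
          have := (Subgroup.mem_normalizer_iff.mp (Subgroup.inv_mem _ hy) u).mp hx
          simpa using this
        rw [extendByZero_of_mem _ _ h3]
        exact (hfc u _ (isConj_iff.mpr ⟨y⁻¹, by group⟩)).symm
      · rw [if_neg hy]
        apply extendByZero_of_not_mem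
        intro h3
        exact hy (mem_normalizer_of_conj_mem hP hx hx1 h3)
    simp only [h2]
    rw [Finset.sum_ite, Finset.sum_const_zero, add_zero, Finset.sum_const, nsmul_eq_mul, hP]
    have h3 : ((Finset.univ.filter (fun y => y ∈ Nn P)).card : ℂ) = (p : ℂ) * e := by
      have h4 : (Finset.univ.filter (fun y => y ∈ Nn P)).card = Nat.card (Nn P) := by
        rw [Nat.card_eq_fintype_card, Fintype.card_subtype]
      rw [h4, hN]
      push_cast
      rfl
    rw [h3]
    field_simp
  · rw [hreg g hg, mul_zero, indFun_apply]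
    apply mul_eq_zero_of_right
    apply Finset.sum_eq_zero
    intro x _
    by_cases hx : x⁻¹ * g * x ∈ P
    · rw [extendByZero_of_mem _ _ hx]
      apply hreg
      have h3 : x⁻¹ * g * x = MulAut.conj x⁻¹ g := by
        simp
      show ¬ p ∣ orderOf (x⁻¹ * g * x)
      rw [h3, MulEquiv.orderOf_eq]
      exact hg
    · exact extendByZero_of_not_mem _ _ hx

/-- Inner products with a class function vanishing on the regular elements are computed on `P`. -/
theorem classInner_of_vanish (hP : Nat.card P = p) (hp2 : ¬ p ^ 2 ∣ Nat.card G) (hC : Cn P = P)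
    (hN : Nat.card (Nn P) = p * e) (he0 : 0 < e) {f θ : G → ℂ} (hf : IsClassFunction G f)
    (hθ : IsClassFunction G θ) (hreg : ∀ g, ¬ p ∣ orderOf g → f g = 0) :
    (p : ℂ) * (e : ℂ) * classInner f θ = ∑ u : P, f u * conj (θ u) := by
  classical
  have hp0 : (p : ℂ) ≠ 0 := by exact_mod_cast hp.out.ne_zero
  have he0' : (e : ℂ) ≠ 0 := by exact_mod_cast he0.ne'
  have h1 : indFun P (fun u : P => f u) = (e : ℂ) • f := by
    funext g
    rw [indFun_of_vanish hP hp2 hC hN hf hreg g]
    rfl
  have h2 := classInner_indFun_left P (fun u : P => f u) θ hθ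
  rw [h1, classInner_subgroup_eq, hP] at h2
  have h3 : classInner ((e : ℂ) • f) θ = (e : ℂ) * classInner f θ := by
    rw [classInner_def, classInner_def, Finset.mul_sum, Finset.mul_sum, Finset.mul_sum]
    refine Finset.sum_congr rfl fun g _ => ?_
    simp only [Pi.smul_apply, smul_eq_mul]
    ring
  rw [h3] at h2
  rw [mul_assoc, h2]
  field_simp

end Block

section Sums

variable {G : Type u} [Group G] [Fintype G]

/-- Sums of a character over nested subgroups. -/
theorem exists_sum_le {H K : Subgroup G} [Fintype H] [Fintype K] (hHK : H ≤ K) {χ : G → ℂ}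
    (hχ : IsCharacter G χ) : ∃ a b : ℕ, ∑ k : K, χ k = (Nat.card K : ℂ) * a ∧
      ∑ h : H, χ h = (Nat.card H : ℂ) * b ∧ a ≤ b := by
  obtain ⟨a, b, ha, hb, hab⟩ := Cfsg.Agent.Lib.BrauerP.ResLe.exists_le_of_le hHK hχ
  refine ⟨a, b, ?_, ?_, hab⟩
  · have h1 : ((Nat.card K : ℂ)) ≠ 0 := by exact_mod_cast (Nat.card_pos (α := K)).ne'
    rw [classInner_def] at ha
    simp only [one_mul] at ha
    have h2 : ∑ h : K, conj (χ h) = (Nat.card K : ℂ) * a := by
      rw [← ha, ← mul_assoc, mul_inv_cancel₀ h1, one_mul]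
    have h3 := congrArg conj h2
    simp only [map_sum, Complex.conj_conj, map_mul, Complex.conj_natCast] at h3
    exact h3
  · have h1 : ((Nat.card H : ℂ)) ≠ 0 := by exact_mod_cast (Nat.card_pos (α := H)).ne'
    rw [classInner_def] at hb
    simp only [one_mul] at hb
    have h2 : ∑ h : H, conj (χ h) = (Nat.card H : ℂ) * b := by
      rw [← hb, ← mul_assoc, mul_inv_cancel₀ h1, one_mul]
    have h3 := congrArg conj h2
    simp only [map_sum, Complex.conj_conj, map_mul, Complex.conj_natCast] at h3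
    exact h3

/-- The sum of a character over a subgroup. -/
theorem exists_sum_char (H : Subgroup G) [Fintype H] {χ : G → ℂ} (hχ : IsCharacter G χ) :
    ∃ a : ℕ, ∑ k : H, χ k = (Nat.card H : ℂ) * a := by
  obtain ⟨a, b, h1, -, -⟩ := exists_sum_le (H := (⊥ : Subgroup G)) (K := H) bot_le hχ
  exact ⟨a, h1⟩

/-- Values of characters are algebraic integers. -/
theorem isIntegral_char {χ : G → ℂ} (hχ : IsCharacter G χ) (g : G) : IsIntegral ℤ (χ g) := by
  obtain ⟨n, ρ, rfl⟩ := hχ
  exact Cfsg.Agent.Lib.Char.Eigen.character_isIntegral ρ g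

omit [Group G] [Fintype G] in
/-- A rational algebraic integer is an integer. -/
theorem exists_int_of_rat {x : ℂ} (h : IsIntegral ℤ x) (r : ℚ) (hr : x = (r : ℂ)) : ∃ n : ℤ, x = n := by
  have hint : IsIntegral ℤ ((r : ℚ) : ℂ) := hr ▸ h
  have hint' : IsIntegral ℤ r :=
    (isIntegral_algebraMap_iff (algebraMap ℚ ℂ).injective).mp (by simpa using hint)
  obtain ⟨k, hk⟩ := IsIntegrallyClosed.isIntegral_iff.mp hint'
  refine ⟨k, ?_⟩
  rw [hr]
  have : ((k : ℤ) : ℚ) = r := by simpa using hk
  rw [← this]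
  simp

/-- The value of a character at an involution is an integer. -/
theorem exists_int_of_mul_self {χ : G → ℂ} (hχ : IsCharacter G χ) {g : G} (hg : g * g = 1) :
    ∃ c : ℤ, χ g = c := by
  obtain ⟨n, ρ, rfl⟩ := hχ
  obtain ⟨μ, h1, h2⟩ := Cfsg.Agent.Lib.Char.Eigen.character_eq_sum_roots' ρ g
  have h3 : orderOf g ∣ 2 := orderOf_dvd_of_pow_eq_one (by rw [pow_two, hg])
  have h4 : ∀ i, ∃ c : ℤ, μ i = c := by
    intro i
    have h5 : μ i ^ 2 = 1 := by
      obtain ⟨k, hk⟩ := h3
      rw [hk, pow_mul, h1 i, one_pow]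
    have h6 : (μ i - 1) * (μ i + 1) = 0 := by linear_combination h5
    rcases mul_eq_zero.mp h6 with h7 | h7
    · exact ⟨1, by push_cast; linear_combination h7⟩
    · exact ⟨-1, by push_cast; linear_combination h7⟩
  choose c hc using h4
  refine ⟨∑ i, c i, ?_⟩
  rw [h2]
  push_cast
  exact Finset.sum_congr rfl fun i _ => hc i

/-- A character of odd degree does not vanish on elements of order a power of `2`. -/
theorem val_ne_zero_of_odd {χ : G → ℂ} (hχ : IsCharacter G χ) {g : G} {j : ℕ} (hg : orderOf g = 2 ^ j)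
    (hodd : Odd (charDegree χ)) : χ g ≠ 0 := by
  intro h0
  obtain ⟨M, hM⟩ := Cfsg.Agent.Lib.BlockH.Basic.exists_isPModular Nat.prime_two
  have hdeg := charDegree_natCast hχ
  obtain ⟨n, ρ, rfl⟩ := hχ
  obtain ⟨a, ha, hae⟩ := Cfsg.Agent.Lib.BlockH.Basic.finrank_sub_character_mem hM ρ hg
  rw [h0, sub_zero] at hae
  rw [Representation.char_one] at hdeg
  have h1 : (a : ℂ) = (charDegree (ρ.character) : ℂ) := by
    rw [← hae, hdeg]
  obtain ⟨k, hk⟩ := hodd
  have h2 : a = (2 : AlgInt) * (k : AlgInt) + 1 := by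
    apply Subtype.ext
    rw [h1, hk]
    push_cast
    rfl
  have h3 : (2 : AlgInt) ∈ M := by
    have := hM.2.2
    simpa using this
  have h4 : (1 : AlgInt) ∈ M := by
    have h5 : (1 : AlgInt) = a - (2 : AlgInt) * (k : AlgInt) := by
      rw [h2]
      ring
    rw [h5]
    exact M.sub_mem ha (M.mul_mem_right _ h3)
  exact hM.2.1.ne_top ((Ideal.eq_top_iff_one _).mpr h4)

omit [Fintype G] in
/-- A central involution in a group of order a power of `2`. -/
theorem exists_central_involution (Q : Subgroup G) {b : ℕ} (hQ : Nat.card Q = 2 ^ b) (hb : 1 ≤ b)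
    [Finite G] : ∃ x ∈ Q, x * x = 1 ∧ x ≠ 1 ∧ ∀ y ∈ Q, y * x = x * y := by
  have hQp : IsPGroup 2 Q := IsPGroup.of_card hQ
  have : Fact (Nat.Prime 2) := ⟨Nat.prime_two⟩
  have hnt : Nontrivial Q := by
    apply Finite.one_lt_card_iff_nontrivial.mp
    rw [hQ]
    exact Nat.one_lt_two_pow (by omega)
  have hc := hQp.center_nontrivial
  have hc2 : 2 ∣ Nat.card (Subgroup.center Q) := by
    obtain ⟨k, hk⟩ := IsPGroup.iff_card.mp (hQp.to_subgroup (Subgroup.center Q))
    rw [hk]
    have hk0 : k ≠ 0 := by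
      rintro rfl
      have h1 : 1 < Nat.card (Subgroup.center Q) := Finite.one_lt_card_iff_nontrivial.mpr hc
      rw [hk] at h1
      simp at h1
    exact dvd_pow_self 2 hk0
  obtain ⟨z, hz⟩ := exists_prime_orderOf_dvd_card' 2 hc2
  have hz' : orderOf (((z : Subgroup.center Q) : Q) : G) = 2 := by
    rw [Subgroup.orderOf_coe, Subgroup.orderOf_coe]
    exact hz
  refine ⟨((z : Subgroup.center Q) : Q), ((z : Subgroup.center Q) : Q).2, ?_, ?_, ?_⟩
  · have := pow_orderOf_eq_one (((z : Subgroup.center Q) : Q) : G)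
    rwa [hz', pow_two] at this
  · intro h
    rw [h, orderOf_one] at hz'
    omega
  · intro y hy
    have h1 := Subgroup.mem_center_iff.mp z.2 ⟨y, hy⟩
    exact congrArg Subtype.val h1

end Sums

section Dihedral

variable {G : Type u} [Group G] {p : ℕ} [hp : Fact p.Prime] {P : Subgroup G}

/-- The subgroup generated by `P` and an involution inverting `P`. -/
def dihSub (P : Subgroup G) (τ : G) (hτ : τ * τ = 1) (hinv : ∀ u ∈ P, τ * u * τ⁻¹ = u⁻¹) : Subgroup G where
  carrier := {g | g ∈ P ∨ τ * g ∈ P}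
  one_mem' := Or.inl P.one_mem
  inv_mem' := by
    have hτi : τ⁻¹ = τ := inv_eq_of_mul_eq_one_left hτ
    rintro g (hg | hg)
    · exact Or.inl (P.inv_mem hg)
    · right
      have h1 : τ * (τ * g)⁻¹ * τ⁻¹ = (τ * g)⁻¹⁻¹ := hinv _ (P.inv_mem hg)
      have h2 : τ * g⁻¹ = τ * (τ * g)⁻¹ * τ⁻¹ := by
        rw [hτi, mul_inv_rev, hτi]
        calc τ * g⁻¹ = τ * (g⁻¹ * (τ * τ)) := by rw [hτ, mul_one]
          _ = _ := by group
      rw [h2, h1, inv_inv]
      exact hg
  mul_mem' := by
    have hτi : τ⁻¹ = τ := inv_eq_of_mul_eq_one_left hτ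
    rintro a b (ha | ha) (hb | hb)
    · exact Or.inl (P.mul_mem ha hb)
    · right
      have h1 : τ * a * τ⁻¹ = a⁻¹ := hinv a ha
      have h2 : τ * (a * b) = (τ * a * τ⁻¹) * (τ * b) := by group
      rw [h2, h1]
      exact P.mul_mem (P.inv_mem ha) hb
    · right
      rw [← mul_assoc]
      exact P.mul_mem ha hb
    · left
      have h1 : τ * (τ * a) * τ⁻¹ = (τ * a)⁻¹ := hinv _ ha
      have h2 : a * b = (τ * (τ * a) * τ⁻¹) * (τ * b) := by
        calc a * b = (τ * τ) * a * ((τ⁻¹ * τ) * b) := by rw [hτ]; group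
          _ = _ := by group
      rw [h2, h1]
      exact P.mul_mem (P.inv_mem ha) hb

variable [Fintype G]

/-- An involution inverting `P` has bounded character values. -/
theorem bound_of_inverting (hP : Nat.card P = p) (hodd : p ≠ 2) [Fintype P] {τ : G} (hτ : τ * τ = 1)
    (hinv : ∀ u ∈ P, τ * u * τ⁻¹ = u⁻¹) {χ : G → ℂ} (hχ : IsCharacter G χ) {b : ℕ}
    (hb : ∑ u : P, χ u = (p : ℂ) * b) : ∃ c : ℤ, χ τ = c ∧ |c| ≤ b := by
  classical
  have hpp := hp.out.two_le
  have hp0 : (p : ℂ) ≠ 0 := by exact_mod_cast hp.out.ne_zero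
  have hτi : τ⁻¹ = τ := inv_eq_of_mul_eq_one_left hτ
  have hcf := isClassFunction_iff_isConj.mp (isClassFunction_of_isCharacter hχ)
  have hppow : ∀ u ∈ P, u ^ p = 1 := by
    intro u hu
    have h1 := pow_card_eq_one' (x := (⟨u, hu⟩ : P))
    rw [hP] at h1
    have := congrArg Subtype.val h1
    simpa using this
  -- `τ` is not in `P`
  have hτP : τ ∉ P := by
    intro hτ'
    obtain ⟨u, hu⟩ := Cfsg.Agent.Lib.BrauerP.Data.exists_ne_one hP
    have hcomm := Cfsg.Agent.Lib.ExcP.Dual.comm_of_card hP ⟨τ, hτ'⟩ u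
    have h1 : τ * (u : G) = (u : G) * τ := congrArg Subtype.val hcomm
    have h2 := hinv u u.2
    rw [h1, mul_assoc, mul_inv_cancel, mul_one] at h2
    have h3 : (u : G) * u = 1 := by
      nth_rewrite 1 [h2]
      exact inv_mul_cancel _
    have h4 : orderOf (u : G) ∣ 2 := orderOf_dvd_of_pow_eq_one (by rw [pow_two, h3])
    have h5 : orderOf (u : G) ∣ p := orderOf_dvd_of_pow_eq_one (hppow u u.2)
    have h6 : Nat.Coprime 2 p := by
      rw [Nat.coprime_primes Nat.prime_two hp.out]
      exact fun h => hodd h.symm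
    have h7 : orderOf (u : G) = 1 := Nat.eq_one_of_dvd_coprimes h6 h4 h5
    exact hu (Subtype.ext (orderOf_eq_one_iff.mp h7))
  let H := dihSub P τ hτ hinv
  let _ : Fintype H := Fintype.ofFinite _
  have hPH : P ≤ H := fun u hu => Or.inl hu
  -- the enumeration of `H`
  let φ : P ⊕ P → H := fun x => match x with
    | Sum.inl u => ⟨u, Or.inl u.2⟩
    | Sum.inr u => ⟨τ * u, Or.inr (by rw [← mul_assoc, hτ, one_mul]; exact u.2)⟩
  have hφ : Function.Bijective φ := by
    constructor
    · rintro (u | u) (v | v) h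
      · have this := congrArg (Subtype.val : H → G) h
        change (u : G) = v at this
        rw [Subtype.ext this]
      · exfalso
        have h1 := congrArg (Subtype.val : H → G) h
        change (u : G) = τ * v at h1
        apply hτP
        have h2 : τ = u * (v : G)⁻¹ := by rw [h1]; group
        rw [h2]
        exact P.mul_mem u.2 (P.inv_mem v.2)
      · exfalso
        have h1 := congrArg (Subtype.val : H → G) h
        change τ * (u : G) = v at h1
        apply hτP
        have h2 : τ = v * (u : G)⁻¹ := by rw [← h1]; group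
        rw [h2]
        exact P.mul_mem v.2 (P.inv_mem u.2)
      · have h1 := congrArg (Subtype.val : H → G) h
        change τ * (u : G) = τ * v at h1
        rw [Subtype.ext (mul_left_cancel h1)]
    · rintro ⟨g, hg | hg⟩
      · exact ⟨Sum.inl ⟨g, hg⟩, rfl⟩
      · refine ⟨Sum.inr ⟨τ * g, hg⟩, ?_⟩
        apply Subtype.ext
        show τ * (τ * g) = g
        rw [← mul_assoc, hτ, one_mul]
  have hcardH : Nat.card H = 2 * p := by
    rw [← Nat.card_congr (Equiv.ofBijective φ hφ), Nat.card_sum, hP]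
    ring
  -- the values
  have hval : ∀ u : P, χ (τ * u) = χ τ := by
    intro u
    obtain ⟨m, hm⟩ : ∃ m, p + 1 = 2 * m := by
      rcases hp.out.eq_two_or_odd with h | h
      · exact absurd h hodd
      · exact ⟨(p + 1) / 2, by omega⟩
    set v := (u : G) ^ m with hv
    have hvP : v ∈ P := P.pow_mem u.2 m
    have hvv : v * v = u := by
      rw [hv, ← pow_add, ← two_mul, ← hm, pow_succ, hppow u u.2, one_mul]
    have h1 : τ * (u : G) = v⁻¹ * τ * v := by
      have h2 : τ * v * τ⁻¹ = v⁻¹ := hinv v hvP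
      have h3 : v⁻¹ * τ = τ * v := by
        rw [← h2]
        group
      rw [h3, mul_assoc, hvv]
    rw [h1]
    exact (hcf τ _ (isConj_iff.mpr ⟨v⁻¹, by group⟩)).symm
  have hsum : ∑ h : H, χ h = (p : ℂ) * b + (p : ℂ) * χ τ := by
    rw [← hφ.sum_comp (fun h : H => χ h), Fintype.sum_sum_type, hb]
    congr 1
    have h1 : ∀ u : P, χ ((φ (Sum.inr u) : H) : G) = χ τ := hval
    simp only [h1]
    rw [Finset.sum_const, Finset.card_univ, ← Nat.card_eq_fintype_card, hP, nsmul_eq_mul]
  obtain ⟨a, b', h1, h2, h3⟩ := exists_sum_le hPH hχ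
  rw [hsum, hcardH] at h1
  rw [hb, hP] at h2
  have hbb : b' = b := by
    have : (b' : ℂ) = b := (mul_left_cancel₀ hp0 h2).symm
    exact_mod_cast this
  subst hbb
  refine ⟨2 * a - b', ?_, ?_⟩
  · push_cast at h1 ⊢
    apply mul_left_cancel₀ hp0
    linear_combination h1
  · rw [abs_le]
    constructor <;> omega

end Dihedral

end Cfsg.Agent.Lib.BrauerP.Tuan
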